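import Cfsg.Agent.BZ.L.Cl.Dat
import Cfsg.Agent.BZ.L.Cl.Tr
import Cfsg.Agent.KM.Sc.E0
import Cfsg.Agent.KZ.DatX.Weyl
import Cfsg.Agent.LV.Red.Ab

/-!
# BZ, exceptional groups at good primes: definitions and boxes (helper56)

* `Ge l r H` : the local geometry of a split group, `l` and `r` divide `q - 1`;
* `Vs`, `Tv`, `Lt X l` : the lattice condition;
* boxes `BoxLat`, `BoxAb`, `BoxPull`, `BoxTop`; the target `Good`.
-/

set_option autoImplicit false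

namespace Cfsg.Agent.BZ.Ex

open Cfsg Cfsg.Lie Subgroup Matrix Cfsg.Agent.DL Cfsg.Agent.KM Cfsg.Agent.KZ.DatX Cfsg.Agent.Nodes.RGDChev
open Cfsg.Agent.TO.X.Cn (Pi1)

/-- the local geometry -/
structure Ge (l r : ℕ) (H : Type) [Group H] : Prop where
  el : ∀ D : Subgroup H, IsPGroup l D → ¬ BK.Ab D → ∃ z ∈ D, (∃ x ∈ D, x * z ≠ z * x) ∧ ∃ R : Set H,
    (∀ y ∈ R, ∃ j : ℕ, y ^ r ^ j = 1) ∧ ∀ g, g * z = z * g ↔ g ∈ centralizer R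
  er : ∀ P : Subgroup H, IsPGroup r P → ∃ Q : Subgroup H, IsPGroup l Q ∧ Q ≤ centralizer (P : Set H) ∧
    centralizer (Q : Set H) = centralizer (P : Set H) ∧ normalizer (P : Set H) ≤ normalizer (Q : Set H) ∧
    ∀ n ∈ normalizer (P : Set H), n ∉ centralizer (P : Set H) → n ^ l ∈ centralizer (P : Set H) → ∃ θ : Q →* ℂˣ,
      ∀ g ∈ normalizer (P : Set H), g ^ l ∈ centralizer (P : Set H) →
        (∀ y y' : Q, (y' : H) = g * y * g⁻¹ → θ y' = θ y) → g ∈ centralizer (P : Set H)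

/-- `A` is trivial on `V` modulo `l` -/
def Tv {R : Type} [Fintype R] [DecidableEq R] (l : ℕ) (A : Matrix R R ℤ) (V : Set (R → ℤ)) : Prop :=
  ∀ v ∈ V, ∀ i, (l : ℤ) ∣ ((A - 1) *ᵥ v) i

section Dat

variable {p : ℕ} [Fact p.Prime] {k : Type} [Field k] [CharP k p] {Y : Type} [Group Y] {N : Type} [Fintype N]
  [DecidableEq N] {ρ : Y →* GL N k} {F : MulAut Y} {G : Subgroup Y} (X : Datum p ρ F G)

/-- the cocharacters which are orthogonal to `Ψ` modulo `l` -/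
def Vs (l : ℕ) (Ψ : Set (X.I → ℤ)) : Set (X.R → ℤ) := {v | ∀ a ∈ Ψ, (l : ℤ) ∣ X.wt a ⬝ᵥ v}

/-- **the lattice condition** : a character whose stabiliser has no element of order `l` -/
def Lt (l : ℕ) : Prop :=
  ∀ (Ψ : Set (X.I → ℤ)) (w : X.W), (∀ a ∈ Ψ, X.Rt a) → (∀ a ∈ Ψ, X.act w a ∈ Ψ) → Tv l (X.Wm (w ^ l)) (Vs X l Ψ) →
    ¬ Tv l (X.Wm w) (Vs X l Ψ) → ∃ lam : X.R → ℤ, ∀ g : X.W, (∀ a ∈ Ψ, X.act g a ∈ Ψ) → Tv l (X.Wm (g ^ l)) (Vs X l Ψ) →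
      (∀ v ∈ Vs X l Ψ, (l : ℤ) ∣ lam ⬝ᵥ ((X.Wm g - 1) *ᵥ v)) → Tv l (X.Wm g) (Vs X l Ψ)

end Dat

/-- the lattice condition for all frames of a type -/
def LtX {C : ChevalleyDatum} {n : ℕ} {M : CoxeterMatrix (Fin n)} (hp : IsType C n M) (l : ℕ) : Prop :=
  ∀ (p : ℕ) [Fact p.Prime] (k : Type) [Field k] [CharP k p] [IsAlgClosed k] (Mx : Matrix (Fin n) (Fin n) ℤ) (X : XF hp p k Mx), Lt X.D l

/-- the four lattice conditions -/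
structure BoxLat : Prop where
  e6 : LtX hpE6 5
  e75 : LtX hpE7 5
  e77 : LtX hpE7 7
  e8 : LtX hpE8 7

/-- the abelian Sylow subgroups -/
structure BoxAb : Prop where
  g2 : ∀ (l : ℕ) (S : Type) [Group S], l.Prime → 5 ≤ l → CG2 l S → LV.AbS l S
  f4 : ∀ (l : ℕ) (S : Type) [Group S], l.Prime → 5 ≤ l → CF4 l S → LV.AbS l S
  td4 : ∀ (l : ℕ) (S : Type) [Group S], l.Prime → 5 ≤ l → CTd4 l S → LV.AbS l S
  e6 : ∀ (l : ℕ) (F : Type) [Field F] [Fintype F], l.Prime → 5 ≤ l → (l : F) ≠ 0 → ¬ (l = 5 ∧ Fintype.card F % 5 = 1) →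
    LV.AbS l ↥(chevE6.group F)
  te6 : ∀ (l : ℕ) (F : Type) [Field F] [Fintype F] (q : ℕ), l.Prime → 5 ≤ l → (l : F) ≠ 0 → IsPrimePow q → Fintype.card F = q ^ 2 →
    ¬ (l = 5 ∧ q % 5 = 4) → LV.AbS l ↥(twistedE6 F q)
  e7 : ∀ (l : ℕ) (F : Type) [Field F] [Fintype F], l.Prime → 5 ≤ l → (l : F) ≠ 0 →
    ¬ ((l = 5 ∨ l = 7) ∧ (Fintype.card F % l = 1 ∨ Fintype.card F % l = l - 1)) → LV.AbS l ↥(chevE7.group F)
  e8 : ∀ (l : ℕ) (F : Type) [Field F] [Fintype F], l.Prime → 7 ≤ l → (l : F) ≠ 0 →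
    ¬ (l = 7 ∧ (Fintype.card F % 7 = 1 ∨ Fintype.card F % 7 = 6)) → LV.AbS l ↥(chevE8.group F)

/-- the geometry is pulled back along central extensions -/
def BoxPull : Prop :=
  ∀ {l r z : ℕ} {K H : Type} [Group K] [Finite K] [Group H] (φ : K →* H), l.Prime → r.Prime → l.Coprime z → r.Coprime z →
    φ.ker ≤ center K → (∀ x ∈ φ.ker, x ^ z = 1) → (∀ (h : H) (j : ℕ), h ^ l ^ j = 1 ∨ h ^ r ^ j = 1 → h ∈ φ.range) →
    Ge l r H → Ge l r K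

/-- **the theorem for a cover `X'` of a datum `X`** on which `w₀ F` is the scalar `u ≡ 1 mod l` -/
def BoxTop : Prop :=
  ∀ {p : ℕ} [Fact p.Prime] {k : Type} [Field k] [CharP k p] [IsAlgClosed k] {Y' : Type} [Group Y'] {N' : Type} [Fintype N']
    [DecidableEq N'] {ρ' : Y' →* GL N' k} {F' : MulAut Y'} {Y : Type} [Group Y] {N : Type} [Fintype N] [DecidableEq N]
    {ρ : Y →* GL N k} {F : MulAut Y} (X' : Datum p ρ' F' ⊤) (X : Datum p ρ F ⊤) (θ : Y' →* Y) (z f l e : ℕ) (u : ℤ) (w₀ : X.W),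
    Nonempty (Sc.Isog X' X θ z) → θ.ker ≤ center Y' → X.Wm w₀ * X.Mx = u • 1 → 0 < e → u = (p : ℤ) ^ e ∨ u = -(p : ℤ) ^ e →
    l.Prime → 5 ≤ l → l ≠ p → (l : ℤ) ∣ u - 1 → ¬ l ^ 2 ∣ Nat.card X.W → z ∣ 6 → f ∣ 6 → Pi1 X f →
    (∀ s : ℕ, s.Prime → l ≤ s → Tor.Lev X s) → Lt X l → ∀ M : Ideal AlgInt, IsPModular l M → Cl.BZg l M ↥(GF F' ⊤)

/-- **the target** -/
structure Good : Prop where
  g2 : ∀ (l : ℕ) [Fact l.Prime] (S : Type) [Group S] [Finite S], 5 ≤ l → CG2 l S → RowP l S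
  f4 : ∀ (l : ℕ) [Fact l.Prime] (S : Type) [Group S] [Finite S], 5 ≤ l → CF4 l S → RowP l S
  td4 : ∀ (l : ℕ) [Fact l.Prime] (S : Type) [Group S] [Finite S], 5 ≤ l → CTd4 l S → RowP l S
  e6 : ∀ (l : ℕ) [Fact l.Prime] (S : Type) [Group S] [Finite S], 5 ≤ l → CE6 l S → RowP l S
  te6 : ∀ (l : ℕ) [Fact l.Prime] (S : Type) [Group S] [Finite S], 5 ≤ l → CTe6 l S → RowP l S
  e7 : ∀ (l : ℕ) [Fact l.Prime] (S : Type) [Group S] [Finite S], 5 ≤ l → CE7 l S → RowP l S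
  e8 : ∀ (l : ℕ) [Fact l.Prime] (S : Type) [Group S] [Finite S], 7 ≤ l → CE8 l S → RowP l S

end Cfsg.Agent.BZ.Ex
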