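import Cfsg.Agent.BZ.L.Ex.Defs
import Cfsg.Agent.KM.Nt
import Cfsg.Agent.LV.Blk.Sit
import Cfsg.Agent.S1063
import Cfsg.Agent.S1064
import Cfsg.Agent.S1065
import Cfsg.Agent.S1066

/-!
# BZ, exceptional groups at good primes: the abelian Sylow subgroups, `boxAb : BoxAb` (helper12)
-/

set_option autoImplicit false
set_option linter.unusedSectionVars false
set_option maxRecDepth 100000

namespace Cfsg.Agent.BZ.Ex

open Cfsg Cfsg.Lie Subgroup Matrix Cfsg.Agent.DL Cfsg.Agent.KM Cfsg.Agent.KZ.DatX Cfsg.Agent.Nodes.RGDChev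
  Cfsg.Agent.DL.PP Cfsg.Agent.KZ.Lie Cfsg.Agent.LV Cfsg.Agent.LV.Blk Cfsg.Agent.ChevalleyStructure.CoxeterGeomTypes

namespace Abx

theorem det_two {n : ℕ} {A A' B B' : Matrix (Fin n) (Fin n) ℤ} {t : Fin n → ℤ} {c : ℤ} (h1 : A * A' = 1)
    (h2 : (A + A') * B = B * diagonal t) (h3 : B * B' = c • 1) (hc : c ≠ 0) (Q : ℤ) :
    (Q • A - 1).det * (Q • A' - 1).det = ∏ i, (Q ^ 2 + 1 - Q * t i) := by
  have h4 : (Q • A - 1) * (Q • A' - 1) * B = B * diagonal fun i => Q ^ 2 + 1 - Q * t i := by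
    have h5 : (Q • A - 1) * (Q • A' - 1) = (Q ^ 2 + 1) • (1 : Matrix (Fin n) (Fin n) ℤ) - Q • (A + A') := by
      rw [sub_mul, mul_sub, mul_sub, smul_mul_smul_comm, h1, one_mul, mul_one, mul_one]
      module
    rw [h5, sub_mul, smul_mul_assoc, smul_mul_assoc, one_mul, h2]
    ext i j
    simp only [Matrix.sub_apply, Matrix.smul_apply, mul_diagonal, smul_eq_mul]
    ring
  have h5 := congrArg det h4
  have h6 := congrArg det h3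
  rw [det_mul, det_smul, det_one, mul_one] at h6
  rw [det_mul, det_mul, det_mul, det_diagonal, mul_comm B.det] at h5
  exact mul_right_cancel₀ (left_ne_zero_of_mul (h6 ▸ pow_ne_zero _ hc)) h5

theorem val_le {l m d s : ℕ} {a R N : ℤ} (hl : l.Prime) (hS : d * s = (a ^ m * R).natAbs) (hR : (R : ZMod l) ≠ 0)
    (ha : a ^ (2 * m) ∣ N) (hN : N ≠ 0) : 2 * s.factorization l ≤ N.natAbs.factorization l := by
  have h1 : ¬ l ∣ R.natAbs := fun h => hR ((ZMod.intCast_zmod_eq_zero_iff_dvd R l).2 (Int.ofNat_dvd_left.2 h))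
  have h2 : l ^ s.factorization l ∣ a.natAbs ^ m :=
    ((hl.coprime_iff_not_dvd.2 h1).pow_left _).dvd_of_dvd_mul_right (by
      rw [← Int.natAbs_pow, ← Int.natAbs_mul, ← hS]
      exact (Nat.ordProj_dvd s l).mul_left d)
  refine (hl.pow_dvd_iff_le_factorization (Int.natAbs_ne_zero.2 hN)).1 ?_
  have h3 : (a.natAbs ^ m) ^ 2 ∣ N.natAbs := by
    rw [← pow_mul, mul_comm m, ← Int.natAbs_pow]
    exact Int.natAbs_dvd_natAbs.2 ha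
  have h4 := (pow_dvd_pow_of_dvd h2 2).trans h3
  rwa [← pow_mul, mul_comm] at h4

theorem pr_dvd {l N : ℕ} (hl : l.Prime) (h5 : 5 ≤ l) (h : l ∣ N) (hN : N ∣ 210 ^ 14) : l = 5 ∨ l = 7 := by
  have h1 : l ∣ 6 * 5 * 7 := hl.dvd_of_dvd_pow (h.trans hN)
  rcases (Nat.Prime.dvd_mul hl).1 h1 with h2 | h2
  · rcases (Nat.Prime.dvd_mul hl).1 h2 with h3 | h3
    · have h4 := Nat.le_of_dvd (by decide) h3
      interval_cases l
      · exact .inl rfl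
      · exact absurd hl (by decide)
    · exact .inl ((Nat.prime_dvd_prime_iff_eq hl (by decide)).1 h3)
  · exact .inr ((Nat.prime_dvd_prime_iff_eq hl (by decide)).1 h2)

theorem cast_of {Q r : ℤ} (l : ℕ) (h : Q % (l : ℤ) = r) : (Q : ZMod l) = r := by
  rw [← h]
  exact (ZMod.intCast_mod Q l).symm

theorem cast_sub {q : ℕ} (hq : 0 < q) (n : ℕ) : ((q ^ n - 1 : ℕ) : ℤ) = (q : ℤ) ^ n - 1 := by
  rw [Nat.cast_sub (Nat.one_le_pow n q hq), Nat.cast_pow, Nat.cast_one]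

section Dat

variable {p : ℕ} [Fact p.Prime] {k : Type} [Field k] [CharP k p] {Y : Type} [Group Y] {N : Type} [Fintype N]
  [DecidableEq N] {ρ : Y →* GL N k} {F : MulAut Y} {G : Subgroup Y} [IsAlgClosed k] (D : Datum p ρ F G)
  [Fintype ↥(GF F G)] {l : ℕ}

/-- a torus which contains a Sylow subgroup -/
theorem abS_tor (hl : l.Prime) {w : D.W} (h : (Nat.card ↥(GF F G)).factorization l ≤ (ordT D w).factorization l) :
    AbS l ↥(GF F G) := by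
  have := Fact.mk hl
  let ι := inclusion (inf_le_right : Tw D w ⊓ GF F G ≤ GF F G)
  have := Finite.of_injective ι (inclusion_injective _)
  obtain ⟨P⟩ : Nonempty (Sylow l ↥(Tw D w ⊓ GF F G)) := inferInstance
  refine abS_of_one (Sylow.ofCard ((P : Subgroup _).map ι) (by
    rw [card_map_of_injective (inclusion_injective _), P.card_eq_multiplicity, card_Tw, le_antisymm h (fact_T_le l w)])) ?_
  rintro _ ⟨a, -, rfl⟩ _ ⟨b, -, rfl⟩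
  exact Subtype.ext ((Asm.sys' D).comm _ (Tw_mem w) a a.2 b b.2)

theorem abS_big (hl : l.Prime) (hp : l ≠ p) (hW : ¬ l ∣ Nat.card D.W) : AbS l ↥(GF F G) :=
  let ⟨_, h⟩ := exists_sylT D hl hp hW
  abS_tor D hl h.le

theorem abS_two (hl : l.Prime) {w₀ : D.W} {Q : ℤ} (h0 : D.Wm w₀ * D.Mx = Q • 1) (u v : D.W)
    (h : ∀ M : ℤ, M ≠ 0 → (Q • D.Wm u - 1).det * (Q • D.Wm v - 1).det = M →
      2 * (Nat.card ↥(GF F G)).factorization l ≤ M.natAbs.factorization l) : AbS l ↥(GF F G) := by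
  have h1 : ∀ x : D.W, ordT D (x * w₀) = (Q • D.Wm x - 1).det.natAbs := fun x => by
    rw [ordT, D.Wm_mul, mul_assoc, h0, mul_smul_comm, mul_one]
  have h2 := ordT_ne (D := D) (u * w₀)
  have h3 := ordT_ne (D := D) (v * w₀)
  have h4 := h _ (mul_ne_zero (Int.natAbs_ne_zero.1 (h1 u ▸ h2)) (Int.natAbs_ne_zero.1 (h1 v ▸ h3))) rfl
  rw [Int.natAbs_mul, ← h1, ← h1, Nat.factorization_mul h2 h3, Finsupp.add_apply] at h4
  by_cases h5 : (Nat.card ↥(GF F G)).factorization l ≤ (ordT D (u * w₀)).factorization l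
  · exact abS_tor D hl h5
  · exact abS_tor D hl (w := v * w₀) (by omega)

end Dat

/-- two words and the product of the orders of their tori -/
def Ce (C : ChevalleyDatum) (n : ℕ) (P : ℤ → ℤ) : Prop :=
  ∃ L L' : List (Fin n), ∀ Q : ℤ, (Q • (L.map (sM C n)).prod - 1).det * (Q • (L'.map (sM C n)).prod - 1).det = P Q

theorem ce_of {C : ChevalleyDatum} {n : ℕ} {L L' : List (Fin n)} {A A' : Matrix (Fin n) (Fin n) ℤ}
    (hA : (L.map (sM C n)).prod = A) (hA' : (L'.map (sM C n)).prod = A') (B B' : Matrix (Fin n) (Fin n) ℤ) (t : Fin n → ℤ)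
    (c : ℤ) (h : A * A' = 1 ∧ (A + A') * B = B * diagonal t ∧ B * B' = c • 1 ∧ c ≠ 0) :
    Ce C n fun Q => ∏ i, (Q ^ 2 + 1 - Q * t i) :=
  ⟨L, L', fun Q => hA ▸ hA' ▸ det_two h.1 h.2.1 h.2.2.1 h.2.2.2 Q⟩

section Fr

variable {C : ChevalleyDatum} {n : ℕ} {M : CoxeterMatrix (Fin n)} {hp : IsType C n M} {r : ℕ} [Fact r.Prime]
  {Mx : Matrix (Fin n) (Fin n) ℤ} {Adm : Matrix (Fin n) (Fin n) ℤ → Prop} {d l : ℕ} {S : Type} [Group S]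

theorem ab_nt (h : Nt.HasNT hp r Mx d S) (hl : l.Prime) (hr : l ≠ r) (hW : ¬ l ∣ Nat.card M.Group) : AbS l S := by
  obtain ⟨k, _, _, _, X, -, ⟨s⟩⟩ := h
  have := X.finite
  have := Fintype.ofFinite ↥(GF X.F ⊤)
  exact (abS_big X.D hl hr hW).of_inj s.ov.hom s.ov.hom_inj

theorem ab_ce (h : Nt.HasNT hp r Mx d S) (hl : l.Prime) (hd : ¬ l ∣ d) {L₀ : List (Fin n)} {Q : ℤ}
    (h0 : (L₀.map (sM C n)).prod * Mx = Q • 1) {P : ℤ → ℤ} (hP : Ce C n P) {a R : ℤ} {m d' : ℕ}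
    (hS : d' * Nat.card S = (a ^ m * R).natAbs) (hR : (R : ZMod l) ≠ 0) (ha : a ^ (2 * m) ∣ P Q) : AbS l S := by
  obtain ⟨k, _, _, _, X, -, ⟨s⟩⟩ := h
  have := X.finite
  have := Fintype.ofFinite ↥(GF X.F ⊤)
  obtain ⟨L, L', hL⟩ := hP
  obtain ⟨w₀, hw₀⟩ := X.exists_of_prod (L := L₀) rfl
  obtain ⟨u, hu⟩ := X.exists_of_prod (L := L) rfl
  obtain ⟨v, hv⟩ := X.exists_of_prod (L := L') rfl
  have h2 : ¬ l ∣ s.ov.hom.range.index := fun e => hd (s.ov.prime_dvd hl e)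
  have h3 : Nat.card S ≠ 0 := left_ne_zero_of_mul (s.ov.card_eq ▸ Nat.card_pos.ne')
  refine (abS_two X.D hl (w₀ := w₀) (Q := Q) (hw₀ ▸ h0) u v fun N hN e => ?_).of_inj s.ov.hom s.ov.hom_inj
  have h4 : P Q = N := (hL Q).symm.trans (by rw [hu, hv] at e; exact e)
  rw [s.ov.card_eq, Nat.factorization_mul h3 fun e => h2 (by rw [e]; exact dvd_zero _), Finsupp.add_apply,
    Nat.factorization_eq_zero_of_not_dvd h2, add_zero]
  exact val_le hl hS hR (h4 ▸ ha) hN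

end Fr

theorem ce62 : Ce chevE6 6 fun Q => ∏ i, (Q ^ 2 + 1 - Q * ![-2, -2, -2, -2, 2, 2] i) :=
  have h : ((pwL [1, 2, 4, 3] 3).map (sM chevE6 6)).prod = !![1, 1, 2, 2, 1, 0; 0, -1, 0, 0, 0, 0; 0, 0, -1, 0, 0, 0;
      0, 0, 0, -1, 0, 0; 0, 0, 0, 0, -1, 0; 0, 1, 1, 2, 2, 1] := prod_eq_of isRows_E6 _ (by decide +kernel)
  ce_of h h !![-1, 0, 1, 1, 1, 0; -2, -2, -4, -2, 0, 0; 2, 0, 0, 0, 0, 0; 0, 1, 0, 0, 0, 0; 0, 0, 2, 0, 0, 0; 0, 0, 0, 1, 0, 1]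
    !![0, 0, 1, 0, 0, 0; 0, 0, 0, 2, 0, 0; 0, 0, 0, 0, 1, 0; 0, -1, -1, -2, -2, 0; 2, 1, 2, 2, 1, 0; 0, 1, 1, 2, 2, 2] _ 2
    (by decide +kernel)

theorem ce64 : Ce chevE6 6 fun Q => ∏ i, (Q ^ 2 + 1 - Q * ![0, 0, 0, 0, 2, 2] i) :=
  ce_of (L := pwL [0, 3, 5, 1, 2, 4] 3) (L' := pwL [4, 2, 1, 5, 3, 0] 3)
    (A := !![0, 0, -1, -1, -1, -1; 0, 1, 1, 2, 1, 0; 1, 1, 2, 2, 1, 1; -1, -2, -2, -3, -2, -1; 1, 1, 1, 2, 2, 1;
      -1, 0, -1, -1, -1, 0])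
    (A' := !![1, 0, 1, 1, 1, 0; 0, -1, -1, -2, -1, 0; -1, -1, -1, -2, -2, -1; 1, 2, 2, 3, 2, 1; -1, -1, -2, -2, -1, -1;
      0, 0, 1, 1, 1, 1])
    (prod_eq_of isRows_E6 _ (by decide +kernel)) (prod_eq_of isRows_E6 _ (by decide +kernel))
    !![0, 0, 0, 1, 0, -1; 1, 0, 0, 0, 0, 0; 0, 0, 1, 0, -1, 0; 0, 1, 0, 0, 0, 0; 0, 0, 1, 0, 1, 0; 0, 0, 0, 1, 0, 1]
    !![0, 2, 0, 0, 0, 0; 0, 0, 0, 2, 0, 0; 0, 0, 1, 0, 1, 0; 1, 0, 0, 0, 0, 1; 0, 0, -1, 0, 1, 0; -1, 0, 0, 0, 0, 1] _ 2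
    (by decide +kernel)

theorem ce74 : Ce chevE7 7 fun Q => ∏ i, (Q ^ 2 + 1 - Q * ![0, 0, 0, 0, 2, 2, 2] i) :=
  ce_of (L := pwL [0, 3, 5, 1, 2, 4] 3) (L' := pwL [4, 2, 1, 5, 3, 0] 3)
    (A := !![0, 0, -1, -1, -1, -1, 0; 0, 1, 1, 2, 1, 0, 0; 1, 1, 2, 2, 1, 1, 0; -1, -2, -2, -3, -2, -1, 0; 1, 1, 1, 2, 2, 1, 0;
      -1, 0, -1, -1, -1, 0, 0; 1, 1, 2, 2, 2, 1, 1])
    (A' := !![1, 0, 1, 1, 1, 0, 0; 0, -1, -1, -2, -1, 0, 0; -1, -1, -1, -2, -2, -1, 0; 1, 2, 2, 3, 2, 1, 0;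
      -1, -1, -2, -2, -1, -1, 0; 0, 0, 1, 1, 1, 1, 0; 1, 1, 1, 2, 1, 1, 1])
    (prod_eq_of isRows_E7 _ (by decide +kernel)) (prod_eq_of isRows_E7 _ (by decide +kernel))
    !![0, 0, 1, 0, 0, -1, 0; -2, -3, -2, -1, 0, 0, 0; 0, 1, 0, 0, -1, 0, 0; 1, 0, 0, 0, 0, 0, 0; 0, 1, 0, 0, 1, 0, 0;
      0, 0, 1, 0, 0, 1, 0; 0, 0, 0, 1, 0, 0, 1]
    !![0, 0, 0, 2, 0, 0, 0; 0, 0, 1, 0, 1, 0, 0; 1, 0, 0, 0, 0, 1, 0; -2, -2, -3, -4, -3, -2, 0; 0, 0, -1, 0, 1, 0, 0;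
      -1, 0, 0, 0, 0, 1, 0; 2, 2, 3, 4, 3, 2, 2] _ 2 (by decide +kernel)

theorem ce73 : Ce chevE7 7 fun Q => ∏ i, (Q ^ 2 + 1 - Q * ![-1, -1, -1, -1, -1, -1, 2] i) :=
  ce_of (L := pwL [0, 3, 5, 1, 2, 4] 4) (L' := pwL [4, 2, 1, 5, 3, 0] 4)
    (A := !![-1, -1, -1, -1, 0, 0, 0; 1, 0, 1, 1, 1, 1, 0; 1, 1, 1, 2, 1, 0, 0; -1, -1, -2, -3, -2, -1, 0; 0, 1, 1, 2, 1, 1, 0;
      0, -1, 0, -1, -1, -1, 0; 1, 2, 2, 3, 3, 2, 1])
    (A' := !![0, 1, 1, 1, 0, 0, 0; -1, -1, -1, -1, -1, -1, 0; -1, -1, -2, -2, -1, 0, 0; 1, 1, 2, 2, 2, 1, 0;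
      0, -1, -1, -2, -2, -1, 0; 0, 1, 0, 1, 1, 0, 0; 1, 1, 2, 3, 2, 2, 1])
    (prod_eq_of isRows_E7 _ (by decide +kernel)) (prod_eq_of isRows_E7 _ (by decide +kernel))
    !![-3, -2, -3, -5, -2, -3, 0; 2, 0, 0, 0, 0, 0, 0; 0, 1, 0, 0, 0, 0, 0; 0, 0, 1, 0, 0, 0, 0; 0, 0, 0, 2, 0, 0, 0;
      0, 0, 0, 0, 1, 0, 0; 0, 0, 0, 0, 0, 2, 1]
    !![0, 3, 0, 0, 0, 0, 0; 0, 0, 6, 0, 0, 0, 0; 0, 0, 0, 6, 0, 0, 0; 0, 0, 0, 0, 3, 0, 0; 0, 0, 0, 0, 0, 6, 0;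
      -2, -3, -4, -6, -5, -4, 0; 4, 6, 8, 12, 10, 8, 6] _ 6 (by decide +kernel)

theorem ce83 : Ce chevE8 8 fun Q => ∏ i : Fin 8, (Q ^ 2 + 1 - Q * (fun _ => -1) i) :=
  ce_of (L := pwL [0, 1, 2, 3, 4, 5, 6, 7] 10) (L' := pwL [7, 6, 5, 4, 3, 2, 1, 0] 10)
    (A := !![-1, -1, -1, -2, -1, -1, -1, 0; -1, -2, -2, -3, -2, -2, -1, -1; -1, -1, -2, -2, -2, -1, -1, -1;
      1, 1, 1, 1, 1, 1, 1, 1; 0, 0, 1, 1, 0, 0, 0, 0; 0, 1, 0, 1, 1, 0, 0, 0; 1, 0, 1, 1, 1, 1, 0, 0; 0, 1, 1, 1, 1, 1, 1, 0])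
    (A' := !![0, 1, 1, 2, 1, 1, 1, 0; 1, 1, 2, 3, 2, 2, 1, 1; 1, 1, 1, 2, 2, 1, 1, 1; -1, -1, -1, -2, -1, -1, -1, -1;
      0, 0, -1, -1, -1, 0, 0, 0; 0, -1, 0, -1, -1, -1, 0, 0; -1, 0, -1, -1, -1, -1, -1, 0; 0, -1, -1, -1, -1, -1, -1, -1])
    (prod_eq_of isRows_E8 _ (by decide +kernel)) (prod_eq_of isRows_E8 _ (by decide +kernel)) 1 1 _ 1 (by decide +kernel)

/-- the order polynomial of `E₆` -/
def o6 (Q : ℤ) : ℤ := Q ^ 36 * (Q ^ 2 - 1) * (Q ^ 5 - 1) * (Q ^ 6 - 1) * (Q ^ 8 - 1) * (Q ^ 9 - 1) * (Q ^ 12 - 1)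

/-- the order polynomial of `E₇` -/
def o7 (Q : ℤ) : ℤ :=
  Q ^ 63 * (Q ^ 2 - 1) * (Q ^ 6 - 1) * (Q ^ 8 - 1) * (Q ^ 10 - 1) * (Q ^ 12 - 1) * (Q ^ 14 - 1) * (Q ^ 18 - 1)

/-- the order polynomial of `E₈` -/
def o8 (Q : ℤ) : ℤ :=
  Q ^ 120 * (Q ^ 2 - 1) * (Q ^ 8 - 1) * (Q ^ 12 - 1) * (Q ^ 14 - 1) * (Q ^ 18 - 1) * (Q ^ 20 - 1) * (Q ^ 24 - 1) * (Q ^ 30 - 1)

section Rows

variable {r : ℕ} [Fact r.Prime] {d d' : ℕ} {S : Type} [Group S] {Q : ℤ}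

theorem e6_of {Mx : Matrix (Fin 6) (Fin 6) ℤ} (h : Nt.HasNT hpE6 r Mx d S) (hd : d ∣ 3) {L₀ : List (Fin 6)}
    (h0 : (L₀.map (sM chevE6 6)).prod * Mx = Q • 1) (hS : d' * Nat.card S = (o6 Q).natAbs)
    (hQ : Q % 5 = 4 ∨ Q % 5 = 2 ∨ Q % 5 = 3) : AbS 5 S := by
  have h1 : ¬ 5 ∣ d := fun e => absurd (e.trans hd) (by decide)
  rcases hQ with hQ | hQ
  · refine ab_ce h Nat.prime_five h1 h0 ce62 (a := Q + 1) (m := 4) (R := Q ^ 36 * (Q - 1) * (Q ^ 5 - 1) *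
      ((Q ^ 3 - 1) * (Q ^ 2 - Q + 1)) * ((Q - 1) * (Q ^ 2 + 1) * (Q ^ 4 + 1)) * (Q ^ 9 - 1) *
      ((Q ^ 3 - 1) * (Q ^ 2 - Q + 1) * (Q ^ 6 + 1))) (hS.trans (congrArg _ (by rw [o6]; ring))) ?_ ⟨(Q - 1) ^ 4, ?_⟩
    · push_cast
      rw [cast_of 5 hQ]
      decide +kernel
    · simp [Fin.prod_univ_six]
      ring
  · refine ab_ce h Nat.prime_five h1 h0 ce64 (a := Q ^ 2 + 1) (m := 2) (R := Q ^ 36 * (Q ^ 2 - 1) * (Q ^ 5 - 1) * (Q ^ 6 - 1) *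
      ((Q ^ 2 - 1) * (Q ^ 4 + 1)) * (Q ^ 9 - 1) * ((Q ^ 6 - 1) * (Q ^ 4 - Q ^ 2 + 1)))
      (hS.trans (congrArg _ (by rw [o6]; ring))) ?_ ⟨(Q - 1) ^ 4, ?_⟩
    · push_cast
      rcases hQ with hQ | hQ <;> rw [cast_of 5 hQ] <;> decide +kernel
    · simp [Fin.prod_univ_six]
      ring

theorem e75_of {Mx : Matrix (Fin 7) (Fin 7) ℤ} (h : Nt.HasNT hpE7 r Mx d S) (hd : d ∣ 2) {L₀ : List (Fin 7)}
    (h0 : (L₀.map (sM chevE7 7)).prod * Mx = Q • 1) (hS : d' * Nat.card S = (o7 Q).natAbs)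
    (hQ : Q % 5 = 2 ∨ Q % 5 = 3) : AbS 5 S := by
  refine ab_ce h Nat.prime_five (fun e => absurd (e.trans hd) (by decide)) h0 ce74 (a := Q ^ 2 + 1) (m := 2)
    (R := Q ^ 63 * (Q ^ 2 - 1) * (Q ^ 6 - 1) * ((Q ^ 2 - 1) * (Q ^ 4 + 1)) * (Q ^ 10 - 1) *
      ((Q ^ 6 - 1) * (Q ^ 4 - Q ^ 2 + 1)) * (Q ^ 14 - 1) * (Q ^ 18 - 1))
    (hS.trans (congrArg _ (by rw [o7]; ring))) ?_ ⟨(Q - 1) ^ 6, ?_⟩
  · push_cast
    rcases hQ with hQ | hQ <;> rw [cast_of 5 hQ] <;> decide +kernel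
  · simp [Fin.prod_univ_seven]
    ring

theorem e77_of {Mx : Matrix (Fin 7) (Fin 7) ℤ} (h : Nt.HasNT hpE7 r Mx d S) (hd : d ∣ 2) {L₀ : List (Fin 7)}
    (h0 : (L₀.map (sM chevE7 7)).prod * Mx = Q • 1) (hS : d' * Nat.card S = (o7 Q).natAbs)
    (hQ : Q % 7 = 2 ∨ Q % 7 = 4) : AbS 7 S := by
  refine ab_ce h (by decide) (fun e => absurd (e.trans hd) (by decide)) h0 ce73 (a := Q ^ 2 + Q + 1) (m := 3)
    (R := Q ^ 63 * (Q ^ 2 - 1) * ((Q - 1) * (Q ^ 3 + 1)) * (Q ^ 8 - 1) * (Q ^ 10 - 1) *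
      ((Q - 1) * (Q ^ 3 + 1) * (Q ^ 6 + 1)) * (Q ^ 14 - 1) * ((Q - 1) * (Q ^ 6 + Q ^ 3 + 1) * (Q ^ 9 + 1)))
    (hS.trans (congrArg _ (by rw [o7]; ring))) ?_ ⟨(Q - 1) ^ 2, ?_⟩
  · push_cast
    rcases hQ with hQ | hQ <;> rw [cast_of 7 hQ] <;> decide +kernel
  · simp [Fin.prod_univ_seven]
    ring

theorem e87_of {Mx : Matrix (Fin 8) (Fin 8) ℤ} (h : Nt.HasNT hpE8 r Mx 1 S) {L₀ : List (Fin 8)}
    (h0 : (L₀.map (sM chevE8 8)).prod * Mx = Q • 1) (hS : Nat.card S = (o8 Q).natAbs)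
    (hQ : Q % 7 = 2 ∨ Q % 7 = 4) : AbS 7 S := by
  refine ab_ce h (by decide) (by decide) h0 ce83 (a := Q ^ 2 + Q + 1) (m := 4) (d' := 1)
    (R := Q ^ 120 * (Q ^ 2 - 1) * (Q ^ 8 - 1) * ((Q - 1) * (Q ^ 3 + 1) * (Q ^ 6 + 1)) * (Q ^ 14 - 1) *
      ((Q - 1) * (Q ^ 6 + Q ^ 3 + 1) * (Q ^ 9 + 1)) * (Q ^ 20 - 1) * ((Q - 1) * (Q ^ 3 + 1) * (Q ^ 6 + 1) * (Q ^ 12 + 1)) *
      ((Q - 1) * (Q ^ 12 + Q ^ 9 + Q ^ 6 + Q ^ 3 + 1) * (Q ^ 15 + 1)))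
    ((one_mul _).trans (hS.trans (congrArg _ ?_))) ?_ ⟨1, ?_⟩
  · rw [o8, show Q ^ 12 - 1 = (Q ^ 2 + Q + 1) * ((Q - 1) * (Q ^ 3 + 1) * (Q ^ 6 + 1)) by ring,
      show Q ^ 18 - 1 = (Q ^ 2 + Q + 1) * ((Q - 1) * (Q ^ 6 + Q ^ 3 + 1) * (Q ^ 9 + 1)) by ring,
      show Q ^ 24 - 1 = (Q ^ 2 + Q + 1) * ((Q - 1) * (Q ^ 3 + 1) * (Q ^ 6 + 1) * (Q ^ 12 + 1)) by ring,
      show Q ^ 30 - 1 = (Q ^ 2 + Q + 1) * ((Q - 1) * (Q ^ 12 + Q ^ 9 + Q ^ 6 + Q ^ 3 + 1) * (Q ^ 15 + 1)) by ring]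
    generalize Q ^ 2 + Q + 1 = a
    generalize (Q - 1) * (Q ^ 3 + 1) * (Q ^ 6 + 1) = b
    generalize (Q - 1) * (Q ^ 6 + Q ^ 3 + 1) * (Q ^ 9 + 1) = c
    generalize (Q - 1) * (Q ^ 12 + Q ^ 9 + Q ^ 6 + Q ^ 3 + 1) * (Q ^ 15 + 1) = e
    ring
  · push_cast
    rcases hQ with hQ | hQ <;> rw [cast_of 7 hQ] <;> decide +kernel
  · rw [Finset.prod_const, Finset.card_univ, Fintype.card_fin]
    ring

end Rows

theorem nil_mul {C : ChevalleyDatum} {n : ℕ} (A : Matrix (Fin n) (Fin n) ℤ) : (([] : List (Fin n)).map (sM C n)).prod * A = A :=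
  one_mul A

theorem neg_mul' {n : ℕ} {A : Matrix (Fin n) (Fin n) ℤ} (h : A = -1) (q : ℤ) : A * q • 1 = (-q) • 1 := by
  rw [h, neg_one_mul, neg_smul]

theorem nd {l r : ℕ} (hl : l.Prime) [Fact r.Prime] (h : l ≠ r) (e : ℕ) : ¬ l ∣ r ^ e := fun k =>
  h ((Nat.prime_dvd_prime_iff_eq hl Fact.out).1 (hl.dvd_of_dvd_pow k))

end Abx

open Abx in
/-- **the abelian Sylow subgroups** -/
theorem boxAb : BoxAb where
  g2 l S _ hl h5 h := by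
    obtain ⟨r, e, _, hr, -, -, h1⟩ := Nt.row_G2 h
    refine ab_nt h1 hl hr fun k => ?_
    rw [card_W_G2] at k
    rcases pr_dvd hl h5 k (by decide) with rfl | rfl <;> exact absurd k (by decide)
  f4 l S _ hl h5 h := by
    obtain ⟨r, e, _, hr, -, h1⟩ := Nt.row_F4 h
    refine ab_nt h1 hl hr fun k => ?_
    rw [card_W_F4] at k
    rcases pr_dvd hl h5 k (by decide) with rfl | rfl <;> exact absurd k (by decide)
  td4 l S _ hl h5 h := by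
    obtain ⟨r, e, _, hr, -, h1⟩ := Nt.row_3D4 h
    refine ab_nt h1 hl hr fun k => ?_
    rw [card_W_D4] at k
    rcases pr_dvd hl h5 k (by decide) with rfl | rfl <;> exact absurd k (by decide)
  e6 l F _ _ hl h5 h hn := by
    obtain ⟨r, e, _, _, hr, he, hF⟩ := Nt.exists_char F h
    have h1 := Nt.has_E6 hF
    have h0 := pow_pos (Fact.out : r.Prime).pos e
    have h2 := nd hl hr e
    by_cases k : l ∣ Nat.card CoxeterMatrix.E₆.Group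
    · rw [card_W_E6] at k
      rcases pr_dvd hl h5 k (by decide) with rfl | rfl
      · refine e6_of h1 (Nat.gcd_dvd_left _ _) (nil_mul _) ((S1063.result hF).trans ?_) ?_
        · rw [← Int.natAbs_natCast (_ * _)]
          congr 1
          simp only [Nat.cast_mul, cast_sub h0, Nat.cast_pow, o6]
        · rw [hF] at hn
          rw [← Nat.cast_pow]
          omega
      · exact absurd k (by decide)
    · exact ab_nt h1 hl hr k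
  te6 l F _ _ q hl h5 h hq hF hn := by
    obtain ⟨r, e, _, _, hr, he, rfl⟩ := Nt.exists_char' F h hq two_ne_zero hF
    have h1 := Nt.has_2E6 hF
    have h0 := pow_pos (Fact.out : r.Prime).pos e
    have h2 := nd hl hr e
    by_cases k : l ∣ Nat.card CoxeterMatrix.E₆.Group
    · rw [card_W_E6] at k
      rcases pr_dvd hl h5 k (by decide) with rfl | rfl
      · refine e6_of h1 (Nat.gcd_dvd_left _ _) (L₀ := pwL [0, 3, 5, 1, 2, 4] 6) (Q := -(r : ℤ) ^ e) ?_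
          ((S1066.result hq hF).trans ?_) ?_
        · rw [neg_E6, Matrix.mul_smul, neg_mul, show P6 * P6 = 1 by decide +kernel, smul_neg]
          exact (neg_smul _ _).symm
        · rw [← Int.natAbs_natCast (_ * _)]
          congr 1
          simp only [Nat.cast_mul, cast_sub h0, Nat.cast_pow, Nat.cast_add, Nat.cast_one, o6]
          ring
        · rw [← Nat.cast_pow]
          omega
      · exact absurd k (by decide)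
    · exact ab_nt h1 hl hr k
  e7 l F _ _ hl h5 h hn := by
    obtain ⟨r, e, _, _, hr, he, hF⟩ := Nt.exists_char F h
    have h1 := Nt.has_E7 hF
    have h0 := pow_pos (Fact.out : r.Prime).pos e
    have h2 := nd hl hr e
    have h3 : Nat.gcd 2 (r ^ e - 1) * Nat.card ↥(chevE7.group F) = (o7 ((r : ℤ) ^ e)).natAbs := by
      rw [S1064.result hF, ← Int.natAbs_natCast (_ * _)]
      congr 1
      simp only [Nat.cast_mul, cast_sub h0, Nat.cast_pow, o7]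
    rw [hF] at hn
    by_cases k : l ∣ Nat.card CoxeterMatrix.E₇.Group
    · rw [card_W_E7] at k
      rcases pr_dvd hl h5 k (by decide) with rfl | rfl
      · refine e75_of h1 (Nat.gcd_dvd_left _ _) (nil_mul _) h3 ?_
        rw [← Nat.cast_pow]
        omega
      · by_cases h4 : r ^ e % 7 = 2 ∨ r ^ e % 7 = 4
        · refine e77_of h1 (Nat.gcd_dvd_left _ _) (nil_mul _) h3 ?_
          rw [← Nat.cast_pow]
          omega
        · refine e77_of h1 (Nat.gcd_dvd_left _ _) (neg_mul' neg_E7 _) (h3.trans ?_) ?_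
          · rw [← Int.natAbs_neg, o7, o7]
            congr 1
            ring
          · rw [← Nat.cast_pow]
            omega
    · exact ab_nt h1 hl hr k
  e8 l F _ _ hl h7 h hn := by
    obtain ⟨r, e, _, _, hr, he, hF⟩ := Nt.exists_char F h
    have h1 := Nt.has_E8 hF
    have h0 := pow_pos (Fact.out : r.Prime).pos e
    have h2 := nd hl hr e
    have h3 : Nat.card ↥(chevE8.group F) = (o8 ((r : ℤ) ^ e)).natAbs := by
      rw [S1065.result hF, ← Int.natAbs_natCast (_ * _)]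
      congr 1
      simp only [Nat.cast_mul, cast_sub h0, Nat.cast_pow, o8]
    rw [hF] at hn
    by_cases k : l ∣ Nat.card CoxeterMatrix.E₈.Group
    · rw [card_W_E8] at k
      rcases pr_dvd hl (by omega) k (by decide) with rfl | rfl
      · omega
      · by_cases h4 : r ^ e % 7 = 2 ∨ r ^ e % 7 = 4
        · refine e87_of h1 (nil_mul _) h3 ?_
          rw [← Nat.cast_pow]
          omega
        · refine e87_of h1 (neg_mul' neg_E8 _) (h3.trans ?_) ?_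
          · simp only [o8, Even.neg_pow (by decide : Even 120), Even.neg_pow (by decide : Even 2),
              Even.neg_pow (by decide : Even 8), Even.neg_pow (by decide : Even 12), Even.neg_pow (by decide : Even 14),
              Even.neg_pow (by decide : Even 18), Even.neg_pow (by decide : Even 20), Even.neg_pow (by decide : Even 24),
              Even.neg_pow (by decide : Even 30)]
          · rw [← Nat.cast_pow]
            omega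
    · exact ab_nt h1 hl hr k

end Cfsg.Agent.BZ.Ex
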