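import Cfsg.Agent.BZ.L.Ex.Defs

/-!
# BZ, exceptional groups at good primes: the end game (helper56)

`Ge.main` : a stable block with all heights zero has abelian defect groups; `Ge.main_fix` : the same for the group of fixed points.
-/

set_option autoImplicit false
set_option linter.unusedSectionVars false

namespace Cfsg.Agent.BZ.Ex

open Cfsg Subgroup Cfsg.Agent.BZ.Lab Cfsg.Agent.BZ.Lab.Cor Cfsg.Agent.KM MulAction

theorem exists_conj_mem {G : Type} [Group G] [Finite G] {l : ℕ} [hl : Fact l.Prime] {S : Subgroup G} (hS : ¬ l ∣ S.index) {x : G}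
    (h : x ^ l ∈ S.normalCore) : ∃ z, z⁻¹ * x * z ∈ S := by
  have h1 : IsPGroup l (zpowers (toPermHom G (G ⧸ S) x)) := by
    rw [normalCore_eq_ker] at h
    have h2 : toPermHom G (G ⧸ S) x ^ l = 1 := (map_pow _ x _).symm.trans h
    rintro ⟨_, j, rfl⟩
    exact ⟨1, Subtype.ext (by rw [pow_one, coe_pow, ← zpow_natCast, ← zpow_mul, mul_comm, zpow_mul, zpow_natCast, h2, one_zpow]; rfl)⟩
  obtain ⟨z, hz⟩ := h1.nonempty_fixed_point_of_prime_not_dvd_card (G ⧸ S) hS
  obtain ⟨z, rfl⟩ := QuotientGroup.mk_surjective z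
  exact ⟨z, by
    simpa [mul_assoc] using QuotientGroup.eq.1 (show ((z : G) : G ⧸ S) = (x * z : G) from (hz ⟨_, mem_zpowers _⟩).symm)⟩

variable {l r m n N : ℕ} {M : Ideal AlgInt} {K : Type} [Group K] [Fintype K] {α : MulAut K}

/-- **the end game** -/
theorem Ge.main (C : Ge l r K) (F : Fr l r m n N K α) (hM : IsPModular l M) {B : Set (IrrCharacter K)} {D : Subgroup K}
    (hB : IsPBlock M B) (hBs : StB α B) (hD : IsDefectGroup l M B D) (hDs : StS α D) (hZ : HZr l ⊥ B) : BK.Ab D := by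
  classical
  have : Fact l.Prime := ⟨hM.1⟩
  obtain ⟨P, b, D', D₁, -, o⟩ := Cl.boxMain F hM B D ⊥ ⊥ hB hBs hD hDs bot_le IsPGroup.of_bot (fun g => by simp) bot_le
    (fun y _ _ => by simp [mem_centralizer_iff]) fun P' _ hP' _ => by
      obtain ⟨Q, h1, -, h2, -⟩ := C.er P' hP'
      exact ⟨Q, h1, h2.ge, fun y hy _ => h2.le hy⟩
  obtain ⟨Q, q1, q2, q3, q4, q5⟩ := C.er P o.rp
  have hQD : Q ≤ D' := fun z hz => cen_le_defect hM o.blk o.dfb (Z := Q.subgroupOf _)
    (fun u hu => mem_center_iff.2 fun g => Subtype.ext (q3.ge g.2 u hu).symm) q1.comap_subtype (x := ⟨z, q2 hz⟩) hz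
  obtain rfl : D' = D₁ := by
    by_contra e
    obtain ⟨u, -, k2, k3, k4, v, k5, k6⟩ := o.nrm e
    have k7 : v ∈ centralizer (P : Set K) := q3.le (centralizer_le hQD k5)
    have hN := normal_subgroupOf_iff (centralizer_le_normalizer (P : Set K)) |>.1 inferInstance
    obtain ⟨θ, hθ⟩ := q5 u (o.nor k4) k2 (o.le k3)
    have h5 : Gb hM.2.1.isPrime o.blk ≤ normalizer (Q : Set K) := fun _ hg => q4 hg.1
    have h6 := key hM o bot_le hZ q1 bot_le q2 q3.ge h5 θ fun z hz => by rw [show z = 1 from Subtype.ext hz, map_one]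
    let _ := aY (cn h5)
    let x : Gb hM.2.1.isPrime o.blk := ⟨u * v, mul_mem (o.nor k4) (centralizer_le_normalizer _ k7), k6⟩
    have k10 : (u * v) ^ l ∈ centralizer (P : Set K) := by
      have e1 : ∀ j : ℕ, (u ^ j)⁻¹ * (u * v) ^ j ∈ centralizer (P : Set K) := fun j => by
        induction j with
        | zero => simp
        | succ j ih =>
          rw [show (u ^ (j + 1))⁻¹ * (u * v) ^ (j + 1) = u⁻¹ * ((u ^ j)⁻¹ * (u * v) ^ j) * u⁻¹⁻¹ * v by
            rw [pow_succ, pow_succ]; group]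
          exact mul_mem (hN _ _ ih (inv_mem (o.nor k4))) k7
      simpa using mul_mem (o.le k3) (e1 l)
    have c1 : ∀ y, cn h5 y = 1 ↔ (y : K) ∈ centralizer (Q : Set K) := fun y =>
      (Q.normalizerMonoidHom_ker.le.antisymm Q.normalizerMonoidHom_ker.ge ▸ Iff.rfl :
        inclusion h5 y ∈ Q.normalizerMonoidHom.ker ↔ inclusion h5 y ∈ (centralizer (Q : Set K)).subgroupOf _)
    obtain ⟨z, hz⟩ := exists_conj_mem h6 (x := x) (normal_le_normalCore (N := (cn h5).ker).2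
      (fun w hw => MonoidHom.ext fun t => show θ (cn h5 w⁻¹ t) = θ t by rw [map_inv, show cn h5 w = 1 from hw]; rfl)
      ((c1 (x ^ l)).2 (q3.ge k10)))
    have k11 := hθ _ (z⁻¹ * x * z).2.1 (by
      have := hN _ _ k10 (inv_mem z.2.1)
      rwa [← conj_pow, inv_inv] at this) ((tr_iff h5 (z⁻¹ * x * z) θ θ).2 (DFunLike.congr_fun hz))
    have k12 := mul_mem (hN _ _ k11 z.2.1) (inv_mem k7)
    exact k2 (by simpa [x, mul_assoc] using k12)
  obtain ⟨g, hg⟩ := TID.Red.conj_defect hM hB hD o.dfB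
  refine Cl.ab_conj g (hg ▸ by_contra fun hab => ?_)
  obtain ⟨z, hz, ⟨x, hx, h1⟩, R, h2, h3⟩ := C.el D' (Blocks.Basic.isPGroup_of_isDefectGroup o.dfB) hab
  have h4 : ∀ g, g ∈ centralizer (zpowers z : Set K) → g ∈ centralizer R := fun g hg => (h3 g).1 (hg z (mem_zpowers z)).symm
  refine h1 ((h3 x).2 fun y hy => (o.le hx y (o.mx (zpowers z) (zpowers_le.2 hz) y (fun t ht => ?_) ?_ ?_ fun c _ hc _ => h4 c hc y hy)))
  · exact ((h3 t).1 (o.le hz t ht) y hy).symm
  · obtain ⟨j, hj⟩ := h2 y hy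
    exact ((Nat.dvd_prime_pow F.rp).1 (orderOf_dvd_of_pow_eq_one hj)).imp fun _ e => e.2
  · rintro _ ⟨j, rfl⟩
    exact ((show Commute y z from (h3 z).1 rfl y hy).zpow_right j).symm.eq

/-- **the group of fixed points** -/
theorem Ge.main_fix (C : Ge l r K) (F : Fr l r m n N K α) (hM : IsPModular l M) {H : Type} [Group H] [Fintype H] (j : H →* K)
    (hj : Function.Injective j) (hf : ∀ g, α g = g ↔ g ∈ j.range) : Cl.BZg l M H := fun B D hB hD hZ => by
  obtain ⟨e, -, k1, k2, k3, k4⟩ := Cl.boxW j F.toGl hM hj hf B D hB hD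
  have h1 : ∀ x ∈ D.map j, α x = x := by
    rintro _ ⟨x, -, rfl⟩
    exact (hf _).2 ⟨x, rfl⟩
  have h2 := C.main F hM k1 k2 k3 (fun g => ⟨fun e => by rwa [α.injective (h1 _ e)] at e,
    fun e => by rwa [h1 g e]⟩) (by
      rintro _ ⟨ξ, hξ, rfl⟩ -
      rw [(k4 ξ hξ).1, hZ ξ hξ])
  exact fun x hx y hy => hj (by rw [map_mul, map_mul]; exact h2 _ ⟨x, hx, rfl⟩ _ ⟨y, hy, rfl⟩)

end Cfsg.Agent.BZ.Ex
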