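import Cfsg.Agent.BZ.L.Ex.Geo
import Cfsg.Agent.BZ.L.Ex.Abs

/-!
# BZ, exceptional groups at good primes: the theorem for a datum (helper56)

`boxTop_of : BoxPull → BoxTop`.
-/

set_option autoImplicit false
set_option linter.unusedSectionVars false

namespace Cfsg.Agent.BZ.Ex

open Cfsg Subgroup Matrix Cfsg.Agent.DL Cfsg.Agent.KM Cfsg.Agent.BZ.Lab

theorem exists_lift {Y' Y : Type} [Group Y'] [Group Y] {θ : Y' →* Y} {β : MulAut Y'} {z n : ℕ} (hc : θ.ker ≤ center Y')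
    (hz : ∀ x, θ x = 1 → x ^ z = 1) (hn : n.Coprime z) {y : Y'} (h1 : θ y ^ n = 1) (h2 : ∀ x, θ x = θ y → θ (β x) = θ y) :
    ∃ x, θ x = θ y ∧ β x = x := by
  obtain ⟨c, hc'⟩ := exists_pow_eq_self_of_coprime (x := θ y) (n := z) (hn.symm.coprime_dvd_right (orderOf_dvd_of_pow_eq_one h1))
  have h3 : θ ((y ^ z) ^ c) = θ y := by rw [map_pow, map_pow, hc']
  have h4 : ((y ^ z) ^ c) ^ n = 1 := by
    rw [← pow_mul, mul_comm, pow_mul, ← pow_mul y, mul_comm, pow_mul, hz _ (by rw [map_pow, h1]), one_pow]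
  generalize (y ^ z) ^ c = x at h3 h4
  have h5 : θ (β x * x⁻¹) = 1 := by rw [map_mul, map_inv, h2 x h3, h3, mul_inv_cancel]
  have h6 : Commute (β x * x⁻¹) x := (mem_center_iff.1 (hc h5) x).symm
  have h7 := h6.mul_pow n
  rw [inv_mul_cancel_right, ← map_pow, h4, map_one, mul_one] at h7
  exact ⟨x, h3, mul_inv_eq_one.1 ((pow_eq_one_iff_of_coprime hn).1 ⟨h7.symm, hz _ h5⟩)⟩

theorem exists_r' {p e m : ℕ} {u : ℤ} (hp : p.Prime) (he : 0 < e) (hm : m.Prime) (h6 : 6 < m) (hu : u = (p : ℤ) ^ e ∨ u = -(p : ℤ) ^ e) :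
    ∃ r : ℕ, r.Prime ∧ m < r ∧ r ≠ p ∧ (r : ℤ) ∣ u ^ m - 1 := by
  rcases hu with rfl | rfl
  · obtain ⟨r, h1, h2, h3, h4⟩ := exists_r hp he h6
    refine ⟨r, h1, h2, h3, (ZMod.intCast_zmod_eq_zero_iff_dvd _ r).1 ?_⟩
    push_cast
    rw [← pow_mul, ← h4, pow_orderOf_eq_one, sub_self]
  · obtain ⟨r, h1, h2, h3, h4⟩ := exists_r (f := 2 * e) hp (by omega) h6
    have := Fact.mk h1
    refine ⟨r, h1, h2, h3, (ZMod.intCast_zmod_eq_zero_iff_dvd _ r).1 ?_⟩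
    have h5 : (p : ZMod r) ^ (e * m) * (p : ZMod r) ^ (e * m) = 1 := by
      rw [← pow_add, ← two_mul, ← mul_assoc, ← h4, pow_orderOf_eq_one]
    have h7 : (p : ZMod r) ^ (e * m) ≠ 1 := fun e1 => by
      have := Nat.le_of_dvd (Nat.mul_pos he hm.pos) (h4 ▸ orderOf_dvd_of_pow_eq_one e1)
      have := Nat.mul_pos he hm.pos
      rw [mul_assoc] at *
      omega
    push_cast
    rw [(hm.odd_of_ne_two (by omega)).neg_pow, ← pow_mul, (mul_self_eq_one_iff.1 h5).resolve_left h7, neg_neg, sub_self]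

/-- **the theorem for a datum** -/
theorem boxTop_of (hP : BoxPull) : BoxTop := by
  intro p _ k _ _ _ Y' _ N' _ _ ρ' F' Y _ N _ _ ρ F X' X θ z f l e u w₀ ⟨I⟩ hc hw he hu hl h5 hp hd hW hz hf hπ hL hT M hM
  obtain ⟨N₀, B₀, M₀, h0, h1⟩ := boxGeo X' l hl hp
  obtain ⟨m, k1, k2, k3⟩ := Nat.exists_prime_gt_modEq_one (B₀ + l + 6 + Nat.card X.W) h0
  obtain ⟨α, k4, k5⟩ := h1 m k1 (by omega) k3
  obtain ⟨r, r1, r2, r3, r4⟩ := exists_r' Fact.out he k1 (by omega) hu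
  have := X'.amb.finite_GF ⊤
  have := (X'.pow k1.pos).amb.finite_GF ⊤
  have := Fintype.ofFinite (GF F' ⊤)
  have := Fintype.ofFinite (GF (F' ^ m) ⊤)
  have c6 : ∀ {s : ℕ}, s.Prime → 5 ≤ s → s.Coprime 6 := fun {s} a b => a.coprime_iff_not_dvd.2 fun e1 => by
    have := Nat.le_of_dvd (by decide) e1
    interval_cases s <;> simp_all (config := { decide := true })
  have k6 : GF F' ⊤ ≤ GF (F' ^ m) ⊤ := inf_le_inf_left ⊤ (fix_le_fix_pow m)
  have k7 : ∀ (j : ℕ) (y : Y'), θ ((F' ^ j) y) = (F ^ j) (θ y) := fun j y => by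
    induction j with
    | zero => rfl
    | succ j ih => rw [pow_succ', pow_succ', MulAut.mul_apply, MulAut.mul_apply, I.comm, ih]
  have k8 : X.Wm (w₀ ^ m) * X.Mx ^ m = u ^ m • 1 := by
    have e1 := Wm_mul' hw 1
    rw [X.Wm_one, one_mul, one_mul] at e1
    rw [e1, smul_pow, mul_smul_comm, show X.Wm w₀⁻¹ ^ m = X.Wm (w₀⁻¹ ^ m) from (map_pow X.WmHom _ _).symm, ← X.Wm_mul, inv_pow,
      mul_inv_cancel, X.Wm_one]
  have C : Ge l r (GF (F ^ m) ⊤) := ge_of (Z := X.pow k1.pos) (w₀ := w₀ ^ m) (f := f) k8 (by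
    rintro s (rfl | rfl)
    · exact ⟨hl, by omega, hp, hd.trans (by simpa using sub_dvd_pow_sub_pow u 1 m), (c6 hl h5).coprime_dvd_right hf, hL s hl le_rfl⟩
    · exact ⟨r1, by omega, r3, r4, (c6 r1 (by omega)).coprime_dvd_right hf, hL s r1 (by omega)⟩) hπ hW
    (fun e1 => by have : r ≤ Nat.card X.W := Nat.le_of_dvd Nat.card_pos e1; omega) hT
  let φ : GF (F' ^ m) ⊤ →* GF (F ^ m) ⊤ := (θ.comp (GF (F' ^ m) ⊤).subtype).codRestrict _ fun g =>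
    ⟨trivial, (k7 m g).symm.trans (congrArg θ g.2.2)⟩
  have a1 := (c6 hl h5).coprime_dvd_right hz
  have a2 := (c6 r1 (by omega)).coprime_dvd_right hz
  refine (hP φ hl r1 a1 a2 (fun x hx => mem_center_iff.2 fun g => Subtype.ext
    (mem_center_iff.1 (hc (congrArg Subtype.val hx)) g)) (fun x hx => Subtype.ext (I.pow_eq_one trivial (congrArg Subtype.val hx)))
    (fun h j hj => ?_) C).main_fix (k5 r r1 r2) hM (inclusion k6) (inclusion_injective k6) fun g => ?_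
  · obtain ⟨y, -, hy⟩ := I.surj h trivial
    obtain ⟨n, n1, n2⟩ : ∃ n : ℕ, n.Coprime z ∧ h ^ n = 1 := hj.elim (fun e1 => ⟨_, a1.pow_left j, e1⟩) fun e1 => ⟨_, a2.pow_left j, e1⟩
    obtain ⟨x, x1, x2⟩ := exists_lift (β := F' ^ m) hc (fun x hx => I.pow_eq_one trivial hx) n1 (y := y)
      (by rw [hy]; exact congrArg Subtype.val n2) fun x hx => by rw [k7, hx, hy]; exact h.2.2
    exact ⟨⟨x, trivial, x2⟩, Subtype.ext (x1.trans hy)⟩
  · exact ⟨fun e1 => ⟨⟨g, g.2.1, (k4 g).symm.trans (congrArg Subtype.val e1)⟩, rfl⟩, by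
      rintro ⟨x, rfl⟩
      exact Subtype.ext ((k4 _).trans x.2.2)⟩

end Cfsg.Agent.BZ.Ex
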