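import Cfsg.Agent.BZ.L.Ex.Val

/-!
# BZ, exceptional groups at good primes: the geometry of a split group (helper56)

`Sp Z U f s` : `F` is the scalar `U ≡ 1 mod s` on the torus; `Vg Z s Ψ` : the elements of order `s` of the torus which are killed by `Ψ`;
`Sp.sym` : the centraliser of a set of `s`-elements is the centraliser of a group `Vg Z s' Ψ`; `ge_of`.
-/

set_option autoImplicit false
set_option linter.unusedSectionVars false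

namespace Cfsg.Agent.BZ.Ex

open Cfsg Subgroup Matrix Cfsg.Agent.DL Cfsg.Agent.KM Cfsg.Agent.KM.Tor Cfsg.Agent.KZ.Lie Cfsg.Agent.Nodes.Reps Cfsg.Agent.Tits.Roots
open Cfsg.Agent.TO.X.Cn (Pi1 χ_exp χ_pow rp_pow)

variable {p : ℕ} [Fact p.Prime] {k : Type} [Field k] [CharP k p] {Y : Type} [Group Y] {N : Type} [Fintype N]
  [DecidableEq N] {ρ : Y →* GL N k} {F : MulAut Y} {G : Subgroup Y} [IsAlgClosed k] (Z : Datum p ρ F G)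

/-- the split frame -/
structure Sp (U : ℤ) (f s : ℕ) : Prop where
  mx : Z.Mx = U • 1
  sp : s.Prime
  ne : s ≠ p
  dvd : (s : ℤ) ∣ U - 1
  pi : Pi1 Z f
  cop : s.Coprime f
  lev : Lev Z s

/-- the elements of order `s` which are killed by `Ψ` -/
def Vg (s : ℕ) (Ψ : Set (Z.I → ℤ)) : Subgroup (GF F G) where
  carrier := {g | (g : Y) ∈ Z.T ∧ g ^ s = 1 ∧ ∀ a ∈ Ψ, Z.χ a g = 1}
  one_mem' := ⟨one_mem _, one_pow _, fun a _ => Z.χ_one a⟩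
  mul_mem' := fun {x y} hx hy => ⟨mul_mem hx.1 hy.1,
    by rw [Commute.mul_pow (Subtype.ext (Z.T_comm hx.1 hy.1) : x * y = y * x), hx.2.1, hy.2.1, one_mul],
    fun a ha => by rw [coe_mul, Z.χ_mul a hx.1 hy.1, hx.2.2 a ha, hy.2.2 a ha, one_mul]⟩
  inv_mem' := fun {x} hx => ⟨inv_mem hx.1, by rw [inv_pow, hx.2.1, inv_one],
    fun a ha => by rw [coe_inv, Z.χ_inv a hx.1, hx.2.2 a ha, inv_one]⟩

variable {Z} {U : ℤ} {f s s' l r : ℕ} {ζ : kˣ} {Ψ : Set (Z.I → ℤ)}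

theorem vg_p : IsPGroup s (Vg Z s Ψ) := fun g => ⟨1, Subtype.ext (by rw [pow_one]; exact g.2.2.1)⟩

theorem sep (hs : s.Prime) (hL : Lev Z s) (hΨ : ∀ b ∈ Ψ, Z.Rt b) {a : Z.I → ℤ} (ha : Z.Rt a) (n : ℕ) : ∀ v : Z.R → ℤ,
    (∀ b ∈ Ψ, Z.wt b ⬝ᵥ v = 0) → Z.wt a ⬝ᵥ v ≠ 0 → ¬ (s : ℤ) ^ n ∣ Z.wt a ⬝ᵥ v →
      ∃ u : Z.R → ℤ, (∀ b ∈ Ψ, Z.wt b ⬝ᵥ u = 0) ∧ ¬ (s : ℤ) ∣ Z.wt a ⬝ᵥ u := by
  induction n with
  | zero => exact fun v _ _ h => absurd (by simp) h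
  | succ n ih =>
    intro v h1 h2 h3
    by_cases h4 : (s : ℤ) ∣ Z.wt a ⬝ᵥ v
    · obtain ⟨c, hc, v', h5⟩ := hL 1 v
      rw [pow_one] at hc h5
      have h0 : (s : ℤ) ≠ 0 := Int.natCast_ne_zero.2 hs.ne_zero
      have h6 : ∀ b, Z.Rt b → (s : ℤ) ∣ Z.wt b ⬝ᵥ v → s * (Z.wt b ⬝ᵥ v') = -(c * (Z.wt b ⬝ᵥ v)) := fun b k1 k2 => by
        have := h5 b k1 k2
        rw [dotProduct_add, dotProduct_smul, dotProduct_smul, smul_eq_mul, smul_eq_mul] at this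
        linear_combination this
      have h7 : c ≠ 0 := fun e => hs.one_lt.ne' (by
        rw [e, isCoprime_zero_left, Int.isUnit_iff_natAbs_eq] at hc
        exact hc)
      refine ih v' (fun b hb => (mul_eq_zero.1 ?_).resolve_left h0) (fun e => ?_) fun e => h3 ?_
      · rw [h6 b (hΨ b hb) (h1 b hb ▸ dvd_zero _), h1 b hb, mul_zero, neg_zero]
      · have := h6 a ha h4
        rw [e, mul_zero, eq_comm, neg_eq_zero] at this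
        exact mul_ne_zero h7 h2 this
      · refine (hc.symm.pow_left (m := n + 1)).dvd_of_dvd_mul_left (dvd_neg.1 ?_)
        rw [← h6 a ha h4, pow_succ']
        exact mul_dvd_mul_left _ e
    · exact ⟨v, h1, h4⟩

theorem ex_v (hs : s.Prime) (hζ : orderOf ζ = s) {g : GF F G} (hg : g ∈ Vg Z s Ψ) : ∃ v ∈ Vs Z s Ψ, (g : Y) = Z.τ (coch v ζ) := by
  obtain ⟨c, hc⟩ := (Z.mem_T _).1 hg.1
  have : NeZero s := ⟨hs.ne_zero⟩
  have h1 : c ^ s = 1 := Z.τ_inj (by rw [map_pow, hc, map_one]; exact congrArg Subtype.val hg.2.1)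
  choose x _ hx using fun i => (hζ ▸ IsPrimitiveRoot.orderOf ζ).eq_pow_of_mem_rootsOfUnity (ξ := c i) (congrFun h1 i)
  have h2 : (g : Y) = Z.τ (coch (fun i => x i) ζ) := hc.symm.trans (congrArg _ (funext fun i => by rw [coch_apply, zpow_natCast, hx]))
  exact ⟨_, fun a ha => hζ ▸ (χ_exp Z a _ ζ).1 (h2 ▸ hg.2.2 a ha), h2⟩

namespace Sp

variable (h : Sp Z U f s)
include h

theorem prim : ∃ ζ : kˣ, orderOf ζ = s :=
  exists_prim p k fun e => h.ne ((Nat.prime_dvd_prime_iff_eq Fact.out h.sp).1 e).symm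

theorem ex_g (hζ : orderOf ζ = s) {v : Z.R → ℤ} (hv : v ∈ Vs Z s Ψ) : ∃ g ∈ Vg Z s Ψ, (g : Y) = Z.τ (coch v ζ) := by
  have h1 : ∀ n : ℤ, (s : ℤ) ∣ n → coch v ζ ^ n = 1 := fun n hn => by
    rw [← map_zpow, orderOf_dvd_iff_zpow_eq_one.1 (hζ ▸ hn), map_one]
  refine ⟨⟨_, Z.T_le_G (Z.τ_mem _), ?_⟩, ⟨Z.τ_mem _, Subtype.ext ?_, fun a ha => (χ_exp Z a v ζ).2 (hζ ▸ hv a ha)⟩, rfl⟩
  · show F _ = _
    rw [Z.F_τ, h.mx, mon_zsmul, mon_one, ← sub_add_cancel U 1, _root_.zpow_add_one, h1 _ h.dvd, one_mul]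
    rfl
  · rw [coe_pow, ← map_pow, ← zpow_natCast, h1 _ dvd_rfl, map_one, coe_one]

/-- **the change of the prime** -/
theorem sym (h' : Sp Z U f s') {A : Set Y} (hf : A.Finite) (hT : A ⊆ Z.T) (he : El s A) {y : Y} (hy : y ∈ G) :
    y ∈ centralizer A ↔ ∀ g ∈ Vg Z s' (Z.Sz A), g * y = y * g := by
  have := Z.amb.finite_GF G
  let V : Set Y := Subtype.val '' (Vg Z s' (Z.Sz A) : Set (GF F G))
  have h1 : V ⊆ Z.T := by
    rintro _ ⟨g, hg, rfl⟩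
    exact hg.1
  have h2 : Z.Sz V = Z.Sz A := Set.ext fun a => ⟨fun ha => by_contra fun e => by
    obtain ⟨v, hv⟩ := qc_of_le (h.lev.le_Z0 h.sp hT he)
    have k1 : Z.wt a ⬝ᵥ v ≠ 0 := fun e1 => e ((hv a ha.1).2 e1)
    obtain ⟨u, k2, k3⟩ := sep h'.sp h'.lev (fun b hb => hb.1) ha.1 (Z.wt a ⬝ᵥ v).natAbs v (fun b hb => (hv b hb.1).1 hb) k1 fun e1 =>
      (Nat.le_of_dvd (Int.natAbs_pos.2 k1) (Int.natCast_dvd.1 (by exact_mod_cast e1))).not_gt (Nat.lt_pow_self h'.sp.one_lt)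
    obtain ⟨ζ, hζ⟩ := h'.prim
    obtain ⟨g, k4, k5⟩ := h'.ex_g (Ψ := Z.Sz A) hζ (v := u) fun b hb => k2 b hb ▸ dvd_zero _
    exact k3 (hζ ▸ (χ_exp Z a u ζ).1 (k5 ▸ ha.2 _ ⟨g, k4, rfl⟩)), fun ha => ⟨ha.1, by
      rintro _ ⟨g, hg, rfl⟩
      exact hg.2.2 a ha⟩⟩
  refine ⟨fun e g hg => Z.cen_le_centralizer h1 (cen_congr h2 ▸ cc h.pi h.sp h.ne h.cop h.lev hf hT he y hy e) _ ⟨g, hg, rfl⟩,
    fun e => Z.cen_le_centralizer hT (cen_congr h2 ▸ cc h'.pi h'.sp h'.ne h'.cop h'.lev ((Set.toFinite _).image _) h1 ?_ y hy ?_)⟩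
  · rintro _ ⟨g, hg, rfl⟩
    exact ⟨1, by rw [pow_one]; exact congrArg Subtype.val hg.2.1⟩
  · rintro _ ⟨g, hg, rfl⟩
    exact e g hg

theorem cen_iff (hζ : orderOf ζ = s) {g : GF F G} {w : Z.W} {m : Y} (hm : Z.Rp w m)
    (e : ∀ q ∈ Vg Z s Ψ, (g : Y) * q * (g : Y)⁻¹ = m * q * m⁻¹) :
    g ∈ centralizer (Vg Z s Ψ : Set (GF F G)) ↔ Tv s (Z.Wm w) (Vs Z s Ψ) := by
  have h0 : IsPrimitiveRoot ζ s := hζ ▸ IsPrimitiveRoot.orderOf ζ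
  refine ⟨fun hg v hv => ?_, fun hw q hq => Subtype.ext ?_⟩
  · obtain ⟨q, hq, h1⟩ := h.ex_g hζ hv
    have h2 := e q hq
    rw [← show (q : Y) * g = g * q from congrArg Subtype.val (hg q hq), mul_inv_cancel_right, h1, Z.conj_τ hm] at h2
    exact (mon_coch_iff h0 _ _).1 (Z.τ_inj h2).symm
  · obtain ⟨v, hv, h1⟩ := ex_v h.sp hζ hq
    have h2 := e q hq
    rw [h1, Z.conj_τ hm, (mon_coch_iff h0 _ _).2 (hw v hv), ← h1] at h2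
    exact (mul_inv_eq_iff_eq_mul.1 h2).symm

end Sp

theorem el_of (hl : Sp Z U f l) (hr : Sp Z U f r) (hW : ¬ l ^ 2 ∣ Nat.card Z.W) {D : Subgroup (GF F G)} (hD : IsPGroup l D)
    (hN : ∀ x ∈ D, (x : Y) ∈ Z.NN) (hab : ¬ BK.Ab D) : ∃ z ∈ D, (∃ x ∈ D, x * z ≠ z * x) ∧ ∃ R : Set (GF F G),
      (∀ y ∈ R, ∃ j : ℕ, y ^ r ^ j = 1) ∧ ∀ g, g * z = z * g ↔ g ∈ centralizer R := by
  have := Fact.mk hl.sp
  let π : D →* Z.W := MonoidHom.mk' (fun x => Z.pr (x : GF F G)) fun a b => Z.pr_mul (hN a a.2) (hN b b.2)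
  have : IsCyclic π.range := by
    obtain ⟨j, hj⟩ := IsPGroup.iff_card.1 (hD.of_surjective _ π.rangeRestrict_surjective)
    have h1 : j ≤ 1 := by_contra fun e => hW ((pow_dvd_pow l (by omega)).trans (hj ▸ card_subgroup_dvd_card _))
    exact isCyclic_of_card_dvd_prime (p := l) (hj ▸ (pow_dvd_pow l h1).trans (pow_one l).dvd)
  obtain ⟨z, h1, h2⟩ : ∃ z ∈ π.rangeRestrict.ker, z ∉ center D := by
    by_contra! e
    exact hab fun a ha b hb => congrArg Subtype.val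
      ((π.rangeRestrict.isMulCommutative_of_isCyclic_of_ker_le_center e).is_comm.comm ⟨a, ha⟩ ⟨b, hb⟩)
  have h3 : ((z : GF F G) : Y) ∈ Z.T := (Z.pr_eq_one_iff (hN z z.2)).1 (congrArg Subtype.val h1)
  refine ⟨z, z.2, by_contra fun e => h2 (mem_center_iff.2 fun x => Subtype.ext (by_contra fun e1 => e ⟨x, x.2, e1⟩)),
    Vg Z r (Z.Sz {((z : GF F G) : Y)}), fun y hy => ⟨1, by rw [pow_one]; exact hy.2.1⟩, fun g => ?_⟩
  have h4 := hl.sym hr (Set.finite_singleton _) (Set.singleton_subset_iff.2 h3) (by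
    rintro _ rfl
    exact (hD z).imp fun j hj => congrArg (fun x : D => ((x : GF F G) : Y)) hj) g.2.1
  rw [mem_centralizer_singleton_iff] at h4
  exact Subtype.ext_iff.trans (h4.trans ⟨fun e y hy => Subtype.ext (e y hy), fun e y hy => congrArg Subtype.val (e y hy)⟩)

theorem er_of (hl : Sp Z U f l) (hr : Sp Z U f r) (hW : ¬ r ∣ Nat.card Z.W) (hL : Lt Z l) {P : Subgroup (GF F G)} (hP : IsPGroup r P)
    (hN : ∀ x ∈ P, (x : Y) ∈ Z.NN) : ∃ Q : Subgroup (GF F G), IsPGroup l Q ∧ Q ≤ centralizer (P : Set (GF F G)) ∧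
    centralizer (Q : Set (GF F G)) = centralizer (P : Set (GF F G)) ∧ normalizer (P : Set (GF F G)) ≤ normalizer (Q : Set (GF F G)) ∧
    ∀ n ∈ normalizer (P : Set (GF F G)), n ∉ centralizer (P : Set (GF F G)) → n ^ l ∈ centralizer (P : Set (GF F G)) → ∃ θ : Q →* ℂˣ,
      ∀ g ∈ normalizer (P : Set (GF F G)), g ^ l ∈ centralizer (P : Set (GF F G)) →
        (∀ y y' : Q, (y' : GF F G) = g * y * g⁻¹ → θ y' = θ y) → g ∈ centralizer (P : Set (GF F G)) := by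
  have := Z.amb.finite_GF G
  have := Fact.mk hl.sp
  have he : ∀ x ∈ P, ∃ j : ℕ, (x : Y) ^ r ^ j = 1 := fun x hx =>
    (hP ⟨x, hx⟩).imp fun j hj => congrArg (fun x : P => ((x : GF F G) : Y)) hj
  have hT : ∀ x ∈ P, (x : Y) ∈ Z.T := fun x hx => by
    obtain ⟨j, hj⟩ := he x hx
    have h1 := rp_pow Z (Z.rp_pr (hN x hx)) (r ^ j)
    rw [hj] at h1
    exact (Z.pr_eq_one_iff (hN x hx)).1 ((pow_eq_one_iff_of_coprime ((hr.sp.coprime_iff_not_dvd.2 hW).pow_left j)).1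
      ⟨Z.rp_unique h1 rp_one, pow_card_eq_one'⟩)
  let A : Set Y := Subtype.val '' (P : Set (GF F G))
  have hA : A ⊆ Z.T := by
    rintro _ ⟨x, hx, rfl⟩
    exact hT x hx
  have hs : ∀ {y : Y}, y ∈ G → (y ∈ centralizer A ↔ ∀ g ∈ Vg Z l (Z.Sz A), g * y = y * g) := fun hy =>
    hr.sym hl ((Set.toFinite _).image _) hA (by rintro _ ⟨x, hx, rfl⟩; exact he x hx) hy
  have hC : centralizer (Vg Z l (Z.Sz A) : Set (GF F G)) = centralizer (P : Set (GF F G)) := Subgroup.ext fun g =>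
    ⟨fun e x hx => Subtype.ext ((hs g.2.1).2 (fun y hy => congrArg Subtype.val (e y hy)) _ ⟨x, hx, rfl⟩),
      fun e y hy => Subtype.ext ((hs g.2.1).1 (by rintro _ ⟨x, hx, rfl⟩; exact congrArg Subtype.val (e x hx)) y hy)⟩
  have key : ∀ g ∈ normalizer (P : Set (GF F G)), ∃ w m, Z.Rp w m ∧ (∀ a ∈ Z.Sz A, Z.act w a ∈ Z.Sz A) ∧
      (∀ q ∈ Vg Z l (Z.Sz A), g * q * g⁻¹ ∈ Vg Z l (Z.Sz A)) ∧ ∀ q ∈ Vg Z l (Z.Sz A), (g : Y) * q * (g : Y)⁻¹ = m * q * m⁻¹ := fun g hg => by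
    obtain ⟨w, m, hm, h1⟩ := TO.E6.exists_rp_conj Z (s := fun x : P => ((x : GF F G) : Y))
      (t := fun x : P => ((g * x * g⁻¹ : GF F G) : Y)) (fun x => hT x x.2) (fun x => hT _ ((mem_normalizer_iff.1 hg x).1 x.2)) g.2.1
      fun _ => rfl
    have h2 : ∀ q ∈ Vg Z l (Z.Sz A), (g : Y) * q * (g : Y)⁻¹ = m * q * m⁻¹ := fun q hq => by
      have h3 := (hs (mul_mem (inv_mem hm.mem_G) g.2.1)).1 (by
        rintro _ ⟨x, hx, rfl⟩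
        have h4 : m * x * m⁻¹ = g * x * (g : Y)⁻¹ := h1 ⟨x, hx⟩
        calc _ = m⁻¹ * (m * x * m⁻¹) * g := by group
          _ = _ := by rw [h4]; group) q hq
      calc _ = m * (m⁻¹ * g * q) * (g : Y)⁻¹ := by group
        _ = _ := by rw [← h3]; group
    refine ⟨w, m, hm, fun a ha => ⟨ha.1.act w, ?_⟩, fun q hq => ⟨?_, by rw [conj_pow, hq.2.1, mul_one, mul_inv_cancel], fun a ha => ?_⟩, h2⟩
    · rintro _ ⟨x, hx, rfl⟩
      have h3 : g⁻¹ * x * g ∈ P := (mem_normalizer_iff''.1 hg x).1 hx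
      have h4 := Z.χ_rp hm a (hT _ h3)
      rw [h1 ⟨_, h3⟩, ha.2 _ ⟨_, h3, rfl⟩] at h4
      simpa [mul_assoc] using h4
    · exact Set.mem_of_eq_of_mem (h2 q hq) (Z.conj_mem_T ⟨w, hm⟩ hq.1)
    · have h3 : Z.act w (Z.act w⁻¹ a) = a := by
        have := rep_inv_apply Z.cs Z.h w⁻¹ a
        rwa [inv_inv] at this
      have h4 := Z.χ_rp hm (Z.act w⁻¹ a) hq.1
      rw [h3, ← h2 q hq] at h4
      refine h4.trans (hq.2.2 _ ⟨ha.1.act _, ?_⟩)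
      rintro _ ⟨x, hx, rfl⟩
      rw [← Z.χ_rp hm _ (hT x hx), h3, h1 ⟨x, hx⟩]
      exact ha.2 _ ⟨_, (mem_normalizer_iff.1 hg x).1 hx, rfl⟩
  obtain ⟨ζ, hζ⟩ := hl.prim
  have kp : ∀ {g : GF F G} {w m}, Z.Rp w m → (∀ q ∈ Vg Z l (Z.Sz A), g * q * g⁻¹ ∈ Vg Z l (Z.Sz A)) →
      (∀ q ∈ Vg Z l (Z.Sz A), (g : Y) * q * (g : Y)⁻¹ = m * q * m⁻¹) → g ^ l ∈ centralizer (P : Set (GF F G)) →
      Tv l (Z.Wm (w ^ l)) (Vs Z l (Z.Sz A)) := fun {g w m} hm h1 h2 h3 => by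
    have h4 : ∀ j : ℕ, ∀ q ∈ Vg Z l (Z.Sz A), (g : Y) ^ j * q * ((g : Y) ^ j)⁻¹ = m ^ j * q * (m ^ j)⁻¹ := fun j => by
      induction j with
      | zero => simp
      | succ j ih =>
        intro q hq
        have h5 : (g : Y) ^ j * (g * q * (g : Y)⁻¹) * _ = m ^ j * (g * q * (g : Y)⁻¹) * _ := ih _ (h1 q hq)
        calc _ = (g : Y) ^ j * (g * q * (g : Y)⁻¹) * ((g : Y) ^ j)⁻¹ := by rw [pow_succ]; group
          _ = _ := by rw [h5, h2 q hq, pow_succ]; group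
    exact (hl.cen_iff hζ (rp_pow Z hm l) (h4 l)).1 (hC.ge h3)
  refine ⟨_, vg_p, fun q hq x hx => Subtype.ext (Z.T_comm (hT x hx) hq.1), hC, fun g hg => ?_, fun n n1 n2 n3 => ?_⟩
  · obtain ⟨-, -, -, -, h1, -⟩ := key g hg
    exact mem_normalizer_fintype h1
  obtain ⟨w, m, hm, h1, h2, h3⟩ := key n n1
  obtain ⟨lam, h4⟩ := hL _ w (fun a ha => ha.1) h1 (kp hm h2 h3 n3) fun e => n2 (hC.le ((hl.cen_iff hζ hm h3).2 e))
  have : Finite (zpowers ζ) := finite_zpowers.2 (orderOf_pos_iff.1 (hζ ▸ hl.sp.pos))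
  obtain ⟨ω, hω⟩ := CommGroup.exists_apply_ne_one_of_hasEnoughRootsOfUnity (zpowers ζ) ℂ (a := ⟨ζ, mem_zpowers ζ⟩)
    fun e => hl.sp.one_lt.ne' (by rw [← hζ, show ζ = 1 from congrArg Subtype.val e, orderOf_one])
  have h5 : orderOf (ω ⟨ζ, mem_zpowers ζ⟩) = l := orderOf_eq_prime (by
    rw [← map_pow, show (⟨ζ, mem_zpowers ζ⟩ : zpowers ζ) ^ l = 1 from Subtype.ext (hζ ▸ pow_orderOf_eq_one ζ), map_one]) hω
  let ψ : Vg Z l (Z.Sz A) →* kˣ := MonoidHom.mk' (fun q => chr lam (Z.crd (q : GF F G))) fun a b => by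
    rw [← map_mul, ← Z.crd_mul a.2.1 b.2.1]
    rfl
  have h6 : ∀ (q : Vg Z l (Z.Sz A)) (v : Z.R → ℤ), ((q : GF F G) : Y) = Z.τ (coch v ζ) → ψ q = ζ ^ (lam ⬝ᵥ v) := fun q v e => by
    show chr lam (Z.crd _) = _
    rw [e, Z.crd_τ, chr_coch]
    rfl
  have h7 : ∀ q, ψ q ∈ zpowers ζ := fun q => by
    obtain ⟨v, -, e⟩ := ex_v hl.sp hζ q.2
    exact ⟨_, (h6 q v e).symm⟩
  have h8 : ∀ (q : Vg Z l (Z.Sz A)) (v : Z.R → ℤ), ((q : GF F G) : Y) = Z.τ (coch v ζ) →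
      ω.comp (ψ.codRestrict _ h7) q = ω ⟨ζ, mem_zpowers ζ⟩ ^ (lam ⬝ᵥ v) := fun q v e => by
    rw [← map_zpow]
    exact congrArg ω (Subtype.ext (h6 q v e))
  refine ⟨ω.comp (ψ.codRestrict _ h7), fun g g1 g2 g3 => ?_⟩
  obtain ⟨w', m', k0, k1, k2, k3⟩ := key g g1
  refine hC.le ((hl.cen_iff hζ k0 k3).2 (h4 w' k1 (kp k0 k2 k3 g2) fun v hv => ?_))
  obtain ⟨q, hq, e⟩ := hl.ex_g hζ hv
  have k4 := g3 ⟨q, hq⟩ ⟨_, k2 q hq⟩ rfl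
  rw [h8 ⟨q, hq⟩ v e, h8 ⟨_, k2 q hq⟩ (Z.Wm w' *ᵥ v) ((k3 q hq).trans (by rw [e, Z.conj_τ k0, mon_coch])), zpow_eq_zpow_iff_modEq, h5] at k4
  rw [sub_mulVec, one_mulVec, dotProduct_sub]
  exact k4.symm.dvd

theorem Lt.conj (h : Lt Z l) {y : Y} (hy : y ∈ G) (hN : y⁻¹ * F y ∈ Z.NN) : Lt (Z.conj hy hN) l := by
  have e : (Z.conj hy hN).Wm = Z.Wm := funext (TO.E6.conj_Wm Z hy hN)
  unfold Lt
  rw [e]
  exact h

/-- **the geometry** -/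
theorem ge_of {w₀ : Z.W} (h : Z.Wm w₀ * Z.Mx = U • 1) (hs : ∀ s, s = l ∨ s = r → s.Prime ∧ s ≠ 2 ∧ s ≠ p ∧ (s : ℤ) ∣ U - 1 ∧
    s.Coprime f ∧ Lev Z s) (hP : Pi1 Z f) (h1 : ¬ l ^ 2 ∣ Nat.card Z.W) (h2 : ¬ r ∣ Nat.card Z.W) (hL : Lt Z l) : Ge l r (GF F G) := by
  have key : ∀ s, s = l ∨ s = r → ∀ {y : Y} (hy : y ∈ G) (hN : y⁻¹ * F y ∈ Z.NN), (Z.conj hy hN).Mx = U • 1 → Sp (Z.conj hy hN) U f s :=
    fun s e y hy hN hm => let ⟨a, _, b, c, d, e⟩ := hs s e; ⟨hm, a, b, c, hP.conj hy hN, d, e.conj hy hN⟩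
  refine ⟨fun D hD hab => ?_, fun P hP => ?_⟩
  · obtain ⟨a, b, c, d, -⟩ := hs l (.inl rfl)
    obtain ⟨y, hy, hN, k1, k2⟩ := exists_frame h a b c d hD
    exact el_of (key l (.inl rfl) hy hN k1) (key r (.inr rfl) hy hN k1) h1 hD k2 hab
  · obtain ⟨a, b, c, d, -⟩ := hs r (.inr rfl)
    obtain ⟨y, hy, hN, k1, k2⟩ := exists_frame h a b c d hP
    exact er_of (key l (.inl rfl) hy hN k1) (key r (.inr rfl) hy hN k1) h2 (hL.conj hy hN) hP k2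

end Cfsg.Agent.BZ.Ex
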