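import Mathlib
import Cfsg.Agent.H60.SylTool

/-!
# BZ-Ex-Lat : the lattice condition from four finite facts (helper76)

`Fa` : the facts about a finite group `W` of matrices that permutes a family `rt` of row vectors;
`Fa.main` : the lattice condition.
-/

set_option autoImplicit false
set_option linter.unusedSectionVars false

namespace Cfsg.Agent.BZ.Ex.Lat

open Subgroup Matrix

variable {K n W ι : Type} [CommRing K] [DecidableEq K] [Fintype n] [DecidableEq n] [Group W] [Fintype ι]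

/-- the invariant form -/
def be (rt : ι → n → K) (x y : n → K) : K := ∑ r, (rt r ⬝ᵥ x) * (rt r ⬝ᵥ y)

/-- the number of orthogonal roots -/
def nz (rt : ι → n → K) (s : n → K) : ℕ := ∑ r, if rt r ⬝ᵥ s = 0 then 1 else 0

/-- the annihilator -/
def An (Ψ : Set (n → K)) : Set (n → K) := {v | ∀ a ∈ Ψ, a ⬝ᵥ v = 0}

/-- the pointwise stabilizer -/
def Fx (m : W →* Matrix n n K) (A : Set (n → K)) : Subgroup W where
  carrier := {g | ∀ v ∈ A, m g *ᵥ v = v}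
  one_mem' := fun v _ => by rw [map_one, one_mulVec]
  mul_mem' := fun {a b} ha hb v hv => by rw [map_mul, ← mulVec_mulVec, hb v hv, ha v hv]
  inv_mem' := fun {a} ha v hv => by
    conv_lhs => rw [← ha v hv]
    rw [mulVec_mulVec, ← map_mul, inv_mul_cancel, map_one, one_mulVec]

/-- `g` stabilizes `Ψ` -/
def St (m : W →* Matrix n n K) (Ψ : Set (n → K)) (g : W) : Prop := ∀ a ∈ Ψ, a ᵥ* m g⁻¹ ∈ Ψ

/-- the facts -/
structure Fa (m : W →* Matrix n n K) (rt : ι → n → K) (l : ℕ) (σ : W) (Ψ₀ : Set (n → K)) (s₀ : n → K) : Prop where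
  pr : l.Prime
  perm : ∀ w, ∃ π : Equiv.Perm ι, ∀ r, rt (π r) = rt r ᵥ* m w
  sq : ¬ l * l ∣ Nat.card W
  ord : orderOf σ = l
  f0 : s₀ ∈ An Ψ₀
  f1 : ∀ r, rt r ∉ Ψ₀ → ∀ v, (∀ j : ℕ, (rt r ᵥ* m σ ^ j) ⬝ᵥ v = 0) → m σ *ᵥ v = v
  f2 : ∀ x, (∀ v ∈ An Ψ₀, be rt x v = 0) → be rt x x = 0 → x = 0
  f3 : ∀ s, m σ *ᵥ s = s → nz rt s ≠ nz rt s₀

theorem mem_of_coprime {T : Subgroup W} {g : W} {a b : ℕ} (h : a.Coprime b) (ha : g ^ a ∈ T) (hb : g ^ b ∈ T) : g ∈ T := by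
  have h1 := Nat.gcd_eq_gcd_ab a b
  rw [h, Nat.cast_one] at h1
  have h2 : g = (g ^ a) ^ Nat.gcdA a b * (g ^ b) ^ Nat.gcdB a b := by
    rw [← _root_.zpow_natCast, ← _root_.zpow_natCast, ← _root_.zpow_mul, ← _root_.zpow_mul, ← _root_.zpow_add, ← h1, _root_.zpow_one]
  rw [h2]
  exact mul_mem (zpow_mem ha _) (zpow_mem hb _)

variable [Finite W] {m : W →* Matrix n n K} {rt : ι → n → K} {l : ℕ} {σ : W} {Ψ₀ Ψ : Set (n → K)} {s₀ : n → K}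

theorem mv_inv (m : W →* Matrix n n K) (g : W) (v : n → K) : m g⁻¹ *ᵥ (m g *ᵥ v) = v := by
  rw [mulVec_mulVec, ← map_mul, inv_mul_cancel, map_one, one_mulVec]

theorem mv_inv' (m : W →* Matrix n n K) (g : W) (v : n → K) : m g *ᵥ (m g⁻¹ *ᵥ v) = v := by
  rw [mulVec_mulVec, ← map_mul, mul_inv_cancel, map_one, one_mulVec]

theorem St.zp {g h : W} (hg : St m Ψ g) (hh : h ∈ zpowers g) : St m Ψ h := by
  obtain ⟨k, rfl⟩ := (mem_powers_iff_mem_zpowers.2 hh : h ∈ Submonoid.powers g)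
  clear hh
  induction k with
  | zero => intro a ha; simpa using ha
  | succ k ih =>
    intro a ha
    have h1 := hg _ (ih a ha)
    rw [vecMul_vecMul, ← map_mul, ← _root_.mul_inv_rev] at h1
    simpa only [pow_succ'] using h1

theorem Fa.conj (F : Fa m rt l σ Ψ₀ s₀) {T : Subgroup W} {g : W} (h1 : g ∉ T) (h2 : g ^ l ∈ T) :
    ∃ x : W, x * σ * x⁻¹ ∈ zpowers g ∧ x * σ * x⁻¹ ∉ T := by
  have h3 : l ∣ orderOf g := by
    by_contra h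
    exact h1 (mem_of_coprime ((Nat.Prime.coprime_iff_not_dvd F.pr).2 h) h2 (by rw [pow_orderOf_eq_one]; exact one_mem _))
  obtain ⟨k, hk⟩ := h3
  have h4 : ¬ l ∣ k := fun h => F.sq ((hk ▸ Nat.mul_dvd_mul_left l h).trans (orderOf_dvd_natCard g))
  have h5 : orderOf (g ^ k) = l := by
    have h6 : k ≠ 0 := fun h => h4 (h ▸ dvd_zero l)
    rw [orderOf_pow_of_dvd h6 (hk ▸ dvd_mul_left k l), hk, Nat.mul_div_cancel l (Nat.pos_of_ne_zero h6)]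
  obtain ⟨x, hx⟩ := H60.SylTool.exists_conj_zpowers F.pr F.sq F.ord h5
  refine ⟨x, zpowers_le.2 (npow_mem_zpowers g k) hx, fun h => h1 ?_⟩
  have h6 : zpowers (x * σ * x⁻¹) = zpowers (g ^ k) := eq_of_le_of_card_ge (zpowers_le.2 hx) (by
    rw [Nat.card_zpowers, Nat.card_zpowers, h5, ← F.ord]
    exact (MulEquiv.orderOf_eq (MulAut.conj x) σ).ge)
  exact mem_of_coprime ((Nat.Prime.coprime_iff_not_dvd F.pr).2 h4) h2 (zpowers_le.2 h (h6 ▸ mem_zpowers _))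

theorem Fa.be_inv (F : Fa m rt l σ Ψ₀ s₀) (g : W) (x y : n → K) : be rt (m g *ᵥ x) (m g *ᵥ y) = be rt x y := by
  obtain ⟨π, hπ⟩ := F.perm g
  unfold be
  rw [← Equiv.sum_comp π fun r => (rt r ⬝ᵥ x) * (rt r ⬝ᵥ y)]
  simp only [dotProduct_mulVec, hπ]

theorem Fa.nz_inv (F : Fa m rt l σ Ψ₀ s₀) (g : W) (x : n → K) : nz rt (m g *ᵥ x) = nz rt x := by
  obtain ⟨π, hπ⟩ := F.perm g
  unfold nz
  rw [← Equiv.sum_comp π fun r => if rt r ⬝ᵥ x = 0 then 1 else 0]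
  simp only [dotProduct_mulVec, hπ]

theorem be_sub (rt : ι → n → K) (x y z : n → K) : be rt (x - y) z = be rt x z - be rt y z := by
  simp only [be, dotProduct_sub, sub_mul, Finset.sum_sub_distrib]

/-- **the lattice condition** -/
theorem Fa.main (F : Fa m rt l σ Ψ₀ s₀) (hΨ : ∀ a ∈ Ψ, ∃ r, rt r = a) {w : W} (h1 : St m Ψ w)
    (h2 : w ^ l ∈ Fx m (An Ψ)) (h3 : w ∉ Fx m (An Ψ)) : ∃ lam : n → K, ∀ g, St m Ψ g → g ^ l ∈ Fx m (An Ψ) →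
      (∀ v ∈ An Ψ, lam ⬝ᵥ (m g *ᵥ v) = lam ⬝ᵥ v) → g ∈ Fx m (An Ψ) := by
  obtain ⟨x, h4, h5⟩ := F.conj h3 h2
  have h6 : ∀ a ∈ Ψ, a ᵥ* m x ∈ Ψ₀ := fun a ha => by
    by_contra h
    obtain ⟨r, rfl⟩ := hΨ a ha
    obtain ⟨π, hπ⟩ := F.perm x
    refine h5 fun v hv => ?_
    have h7 := F.f1 (π r) (by rwa [hπ]) (m x⁻¹ *ᵥ v) fun j => by
      have h8 := hv _ (h1.zp (inv_mem (pow_mem h4 j)) _ ha)
      rw [inv_inv, conj_pow, map_mul, map_mul, map_pow, ← vecMul_vecMul, ← vecMul_vecMul, ← dotProduct_mulVec] at h8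
      rwa [hπ]
    rw [map_mul, map_mul, ← mulVec_mulVec, ← mulVec_mulVec, h7, mv_inv']
  have h7 : ∀ v ∈ An Ψ₀, m x *ᵥ v ∈ An Ψ := fun v hv a ha => by
    rw [dotProduct_mulVec]
    exact hv _ (h6 a ha)
  obtain ⟨s, hs⟩ : ∃ s, s = m x *ᵥ s₀ := ⟨_, rfl⟩
  have h8 : s ∈ An Ψ := hs ▸ h7 _ F.f0
  refine ⟨∑ r, (rt r ⬝ᵥ s) • rt r, fun g g1 g2 g3 => ?_⟩
  have h9 : ∀ v, (∑ r, (rt r ⬝ᵥ s) • rt r) ⬝ᵥ v = be rt s v := fun v => by
    rw [sum_dotProduct]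
    exact Finset.sum_congr rfl fun r _ => by rw [smul_dotProduct, smul_eq_mul]
  have h10 : ∀ v ∈ An Ψ, be rt (m g⁻¹ *ᵥ s - s) v = 0 := fun v hv => by
    rw [be_sub, ← F.be_inv g, mv_inv', ← h9, ← h9, g3 v hv, sub_self]
  have h11 : m g⁻¹ *ᵥ s - s ∈ An Ψ := fun a ha => by
    rw [dotProduct_sub, dotProduct_mulVec, h8 _ (g1 a ha), h8 a ha, sub_self]
  have h12 := F.f2 (m x⁻¹ *ᵥ (m g⁻¹ *ᵥ s - s)) (fun v hv => by rw [← F.be_inv x, mv_inv', h10 _ (h7 v hv)])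
    (by rw [F.be_inv, h10 _ h11])
  have h13 : g⁻¹ ∈ Fx m {s} := fun v hv => by
    rw [Set.mem_singleton_iff.1 hv, ← sub_eq_zero, ← mv_inv' m x (m g⁻¹ *ᵥ s - s), h12, mulVec_zero]
  by_contra h14
  obtain ⟨z, h15, -⟩ := F.conj h14 g2
  have h16 := zpowers_le.2 (inv_mem_iff.1 h13) h15 s rfl
  refine F.f3 (m z⁻¹ *ᵥ s) ?_ (by rw [F.nz_inv, hs, F.nz_inv])
  rw [map_mul, map_mul, ← mulVec_mulVec, ← mulVec_mulVec] at h16
  conv_rhs => rw [← h16]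
  rw [mv_inv]

end Cfsg.Agent.BZ.Ex.Lat
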