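import Cfsg.Agent.BZ.L.Ex.Defs
import Cfsg.Agent.BZ.L.Ex.LatA
import Cfsg.Agent.H994.KE.Base
import Cfsg.Agent.KZ.DatX.Weyl
import Cfsg.Agent.KZ.DatX.Defs

/-!
# BZ-Ex-Lat : certificates for the finite facts, the transfer to the data (helper76)
-/

set_option autoImplicit false
set_option linter.unusedSectionVars false

namespace Cfsg.Agent.BZ.Ex.Lat

open Cfsg Cfsg.Lie Subgroup Matrix Cfsg.Agent.DL Cfsg.Agent.KZ.DatX Cfsg.Agent.Nodes.RGDChev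

/-- a digit -/
def dg (l T k : ℕ) : ZMod l := ((T >>> (3 * k) % 8 : ℕ) : ZMod l)

/-- a table of digits -/
def mt (l T a b : ℕ) : Matrix (Fin a) (Fin b) (ZMod l) := Matrix.of fun i j => dg l T (8 * i + j)

/-- row `r` of a table -/
def vc (l T n r : ℕ) : Fin n → ZMod l := fun i => dg l T (8 * r + i)

/-- a table of bytes -/
def lk (T k : ℕ) : ℕ := T >>> (8 * k) % 256

/-- a linear combination of the roots `r, π r, π (π r), ...` -/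
def comb (l n RT PI TC : ℕ) : ℕ → ℕ → ℕ → Fin n → ZMod l
  | 0, _, _ => fun _ => 0
  | k + 1, r, c => fun i => dg l TC c * vc l RT n r i + comb l n RT PI TC k (lk PI r) (c + 1) i

/-- the tables -/
structure Ce where
  N : ℕ
  RT : ℕ
  S : ℕ
  PI : ℕ
  TC : ℕ
  r0 : ℕ
  TD : ℕ
  s0 : ℕ
  B : ℕ
  V : ℕ
  U : ℕ
  F : ℕ
  Y : ℕ
  U3 : ℕ
  F3 : ℕ
  Y3 : ℕ
  P : ℕ
  c0 : ℕ
  fx : List ℕ

/-- the checks -/
structure Ce.Ok (c : Ce) (l n : ℕ) : Prop where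
  pi : ∀ r < c.N, lk c.PI r < c.N ∧ ∀ j, vc l c.RT n (lk c.PI r) j = (vc l c.RT n r ᵥ* mt l c.S n n) j
  a1 : ∀ r < c.N, r ∉ c.fx → ∀ j, comb l n c.RT c.PI c.TC l r (8 * r) j = vc l c.RT n c.r0 j
  r0 : c.r0 < c.N
  b1 : ∀ k j : Fin n, comb l n c.RT c.PI c.TD l c.r0 (8 * k) j = (mt l c.S n n - 1) k j
  f0 : ∀ r ∈ c.fx, vc l c.RT n r ⬝ᵥ vc l c.s0 n 0 = 0
  hB : ∀ i j : Fin n, mt l c.B n n i j = ∑ r : Fin c.N, vc l c.RT n r i * vc l c.RT n r j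
  hV : ∀ r ∈ c.fx, ∀ j, (vc l c.RT n r ᵥ* mt l c.V n n) j = 0
  a2 : ∀ i j, (mt l c.U n 2 * mt l c.F 2 n + mt l c.Y n n * (mt l c.B n n * mt l c.V n n)ᵀ) i j =
    (1 : Matrix (Fin n) (Fin n) (ZMod l)) i j
  b2 : ∀ t : Fin 2 → ZMod l, (mt l c.U n 2 *ᵥ t) ⬝ᵥ (mt l c.B n n *ᵥ (mt l c.U n 2 *ᵥ t)) = 0 →
    ∀ i, (mt l c.U n 2 *ᵥ t) i = 0
  a3 : ∀ i j, (mt l c.U3 n 3 * mt l c.F3 3 n + mt l c.Y3 n n * (mt l c.S n n - 1) : Matrix (Fin n) (Fin n) (ZMod l)) i j =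
    (1 : Matrix (Fin n) (Fin n) (ZMod l)) i j
  p3 : ∀ r < c.N, ∀ j, (vc l c.RT n r ᵥ* mt l c.U3 n 3) j = vc l c.P 3 r j
  b3 : ∀ t₀ t₁ t₂ : ZMod l, (∑ r : Fin c.N, if dg l c.P (8 * r) * t₀ + dg l c.P (8 * r + 1) * t₁ +
    dg l c.P (8 * r + 2) * t₂ = 0 then 1 else 0) ≠ c.c0
  c3 : (∑ r : Fin c.N, if vc l c.RT n r ⬝ᵥ vc l c.s0 n 0 = 0 then 1 else 0) = c.c0

variable {c : Ce} {l n : ℕ}

theorem Ce.Ok.comb_ann (h : c.Ok l n) {v : Fin n → ZMod l} (T k : ℕ) : ∀ {r : ℕ} (_ : r < c.N) (d : ℕ),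
    (∀ j : ℕ, (vc l c.RT n r ᵥ* mt l c.S n n ^ j) ⬝ᵥ v = 0) →
      ∀ j : ℕ, (comb l n c.RT c.PI T k r d ᵥ* mt l c.S n n ^ j) ⬝ᵥ v = 0 := by
  induction k with
  | zero =>
    intro r _ d _ j
    rw [show comb l n c.RT c.PI T 0 r d = 0 from rfl, zero_vecMul, zero_dotProduct]
  | succ k ih =>
    intro r hr d h1 j
    have h2 := ih (h.pi r hr).1 (d + 1) (fun i => by rw [funext (h.pi r hr).2, vecMul_vecMul, ← pow_succ', h1]) j
    rw [show comb l n c.RT c.PI T (k + 1) r d = dg l T d • vc l c.RT n r + comb l n c.RT c.PI T k (lk c.PI r) (d + 1)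
      from rfl, add_vecMul, add_dotProduct, h2, smul_vecMul, smul_dotProduct, h1, smul_zero, add_zero]

theorem Ce.Ok.be_eq (h : c.Ok l n) (x y : Fin n → ZMod l) :
    be (fun r : Fin c.N => vc l c.RT n r) x y = x ⬝ᵥ (mt l c.B n n *ᵥ y) := by
  simp only [be, dotProduct, mulVec, h.hB, Finset.sum_mul, Finset.mul_sum]
  rw [Finset.sum_comm]
  conv_rhs => rw [Finset.sum_comm]
  refine Finset.sum_congr rfl fun j _ => ?_
  rw [Finset.sum_comm]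
  exact Finset.sum_congr rfl fun i _ => Finset.sum_congr rfl fun r _ => by ring

theorem Ce.Ok.fa (h : c.Ok l n) (hl : l.Prime) {W : Type} [Group W] {m : W →* Matrix (Fin n) (Fin n) (ZMod l)} {σ : W}
    (hσ : m σ = mt l c.S n n) (perm : ∀ w, ∃ π : Equiv.Perm (Fin c.N), ∀ r, vc l c.RT n (π r) = vc l c.RT n r ᵥ* m w)
    (sq : ¬ l * l ∣ Nat.card W) (ord : orderOf σ = l) :
    Fa m (fun r : Fin c.N => vc l c.RT n r) l σ {a | ∃ r ∈ c.fx, vc l c.RT n r = a} (vc l c.s0 n 0) := by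
  refine ⟨hl, perm, sq, ord, ?_, fun r hr v hv => ?_, fun x h1 h2 => ?_, fun s hs => ?_⟩
  · rintro _ ⟨r, hr, rfl⟩
    exact h.f0 r hr
  · rw [hσ] at hv ⊢
    have h1 := h.comb_ann c.TC l r.2 (8 * r) hv
    rw [funext (h.a1 r r.2 fun e => hr ⟨r, e, rfl⟩)] at h1
    have h2 : (mt l c.S n n - 1) *ᵥ v = 0 := funext fun k => by
      have h3 := h.comb_ann c.TD l h.r0 (8 * k) h1 0
      rwa [pow_zero, vecMul_one, funext (h.b1 k)] at h3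
    rwa [sub_mulVec, one_mulVec, sub_eq_zero] at h2
  · have h3 : (mt l c.B n n * mt l c.V n n)ᵀ *ᵥ x = 0 := funext fun j => by
      have h4 := h1 (fun i => mt l c.V n n i j) (by
        rintro _ ⟨r, hr, rfl⟩
        exact h.hV r hr j)
      rw [h.be_eq, dotProduct_comm] at h4
      exact h4
    have h4 : mt l c.U n 2 *ᵥ (mt l c.F 2 n *ᵥ x) = x := by
      have h5 := congrArg (· *ᵥ x) (Matrix.ext h.a2)
      simpa only [add_mulVec, ← mulVec_mulVec, h3, mulVec_zero, add_zero, one_mulVec] using h5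
    rw [h.be_eq, ← h4] at h2
    rw [← h4]
    exact funext (h.b2 _ h2)
  · have h3 : (mt l c.S n n - 1) *ᵥ s = 0 := by rw [sub_mulVec, one_mulVec, ← hσ, hs, sub_self]
    have h4 : mt l c.U3 n 3 *ᵥ (mt l c.F3 3 n *ᵥ s) = s := by
      have h5 := congrArg (· *ᵥ s) (Matrix.ext h.a3)
      simpa only [add_mulVec, ← mulVec_mulVec, h3, mulVec_zero, add_zero, one_mulVec] using h5
    obtain ⟨t, ht⟩ : ∃ t, t = mt l c.F3 3 n *ᵥ s := ⟨_, rfl⟩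
    rw [nz, nz, h.c3, ← h4, ← ht]
    refine fun e => h.b3 (t 0) (t 1) (t 2) (Eq.trans (Finset.sum_congr rfl fun r _ => ?_) e)
    rw [dotProduct_mulVec, funext (h.p3 r r.2), dotProduct, Fin.sum_univ_three]
    rfl

section Dat

variable {p : ℕ} [Fact p.Prime] {k : Type} [Field k] [CharP k p] [IsAlgClosed k] {Y : Type} [Group Y] {N : Type} [Fintype N]
  [DecidableEq N] {ρ : Y →* GL N k} {F : MulAut Y} {G : Subgroup Y} (X : Datum p ρ F G)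

/-- the reduction of a vector -/
def rd (l : ℕ) {R : Type} (v : R → ℤ) : R → ZMod l := Int.castRingHom (ZMod l) ∘ v

/-- the reduction of the matrices of the Weyl group -/
noncomputable def mb (l : ℕ) : X.W →* Matrix X.R X.R (ZMod l) :=
  (Int.castRingHom (ZMod l)).mapMatrix.toMonoidHom.comp X.WmHom

theorem rd_surj (l : ℕ) {R : Type} (u : R → ZMod l) : ∃ v, rd l v = u :=
  ⟨fun i => (ZMod.intCast_surjective (u i)).choose, funext fun i => (ZMod.intCast_surjective (u i)).choose_spec⟩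

theorem rd_dot (l : ℕ) {R : Type} [Fintype R] (a v : R → ℤ) : (l : ℤ) ∣ a ⬝ᵥ v ↔ rd l a ⬝ᵥ rd l v = 0 := by
  rw [rd, rd, ← RingHom.map_dotProduct, eq_intCast, ZMod.intCast_zmod_eq_zero_iff_dvd]

theorem rd_mulVec (g : X.W) (v : X.R → ℤ) : rd l (X.Wm g *ᵥ v) = mb X l g *ᵥ rd l v :=
  funext fun i => RingHom.map_mulVec (Int.castRingHom (ZMod l)) (X.Wm g) v i

theorem rd_vecMul (g : X.W) (v : X.R → ℤ) : rd l (v ᵥ* X.Wm g) = rd l v ᵥ* mb X l g :=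
  funext fun i => RingHom.map_vecMul (Int.castRingHom (ZMod l)) (X.Wm g) v i

theorem rd_sub (g : X.W) (v : X.R → ℤ) : rd l ((X.Wm g - 1) *ᵥ v) = mb X l g *ᵥ rd l v - rd l v := by
  rw [sub_mulVec, one_mulVec, ← rd_mulVec]
  exact funext fun i => map_sub (Int.castRingHom (ZMod l)) _ _

theorem mem_vs {Ψ : Set (X.I → ℤ)} {v : X.R → ℤ} : v ∈ Vs X l Ψ ↔ rd l v ∈ An ((fun a => rd l (X.wt a)) '' Ψ) :=
  ⟨fun h _ ⟨a, ha, e⟩ => e ▸ (rd_dot l _ _).1 (h a ha), fun h a ha => (rd_dot l _ _).2 (h _ ⟨a, ha, rfl⟩)⟩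

theorem tv_iff {Ψ : Set (X.I → ℤ)} (g : X.W) :
    Tv l (X.Wm g) (Vs X l Ψ) ↔ g ∈ Fx (mb X l) (An ((fun a => rd l (X.wt a)) '' Ψ)) := by
  have h : ∀ v : X.R → ℤ, (∀ i, (l : ℤ) ∣ ((X.Wm g - 1) *ᵥ v) i) ↔ mb X l g *ᵥ rd l v = rd l v := fun v => by
    rw [← sub_eq_zero, ← rd_sub, funext_iff]
    exact forall_congr' fun i => (ZMod.intCast_zmod_eq_zero_iff_dvd _ l).symm
  refine ⟨fun h1 u hu => ?_, fun h1 v hv => (h v).2 (h1 _ ((mem_vs X).1 hv))⟩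
  obtain ⟨v, rfl⟩ := rd_surj l u
  exact (h v).1 (h1 v ((mem_vs X).2 hu))

theorem st_of {Ψ : Set (X.I → ℤ)} {g : X.W} (h : ∀ a ∈ Ψ, X.act g a ∈ Ψ) :
    St (mb X l) ((fun a => rd l (X.wt a)) '' Ψ) g := by
  rintro _ ⟨a, ha, rfl⟩
  refine ⟨_, h a ha, ?_⟩
  have h1 := X.wt_act' g⁻¹ a
  rw [inv_inv] at h1
  simp only [h1, rd_vecMul]

theorem lt_of [Finite X.W] {ι : Type} [Fintype ι] {rt : ι → X.R → ZMod l} {σ : X.W} {Ψ₀ : Set (X.R → ZMod l)}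
    {s₀ : X.R → ZMod l} (hrt : ∀ a, X.Rt a → ∃ r, rt r = rd l (X.wt a)) (h : Fa (mb X l) rt l σ Ψ₀ s₀) : Lt X l := by
  intro Ψ w h1 h2 h3 h4
  obtain ⟨u, hu⟩ := h.main (Ψ := (fun a => rd l (X.wt a)) '' Ψ) (by rintro _ ⟨a, ha, rfl⟩; exact hrt a (h1 a ha))
    (st_of X h2) ((tv_iff X _).1 h3) (fun e => h4 ((tv_iff X _).2 e))
  obtain ⟨lam, rfl⟩ := rd_surj l u
  refine ⟨lam, fun g g1 g2 g3 => (tv_iff X _).2 (hu g (st_of X g1) ((tv_iff X _).1 g2) fun u hu => ?_)⟩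
  obtain ⟨v, rfl⟩ := rd_surj l u
  have h5 := (rd_dot l _ _).1 (g3 v ((mem_vs X).2 hu))
  rwa [rd_sub, dotProduct_sub, sub_eq_zero] at h5

end Dat

theorem prod_pwL {α β : Type} [Monoid β] (f : α → β) (L : List α) (k : ℕ) : ((pwL L k).map f).prod = (L.map f).prod ^ k := by
  induction k with
  | zero => simp [pwL]
  | succ k ih =>
    rw [pow_succ', ← ih, ← List.prod_append, ← List.map_append]
    rfl

theorem ltX_of {C : ChevalleyDatum} {M : CoxeterMatrix (Fin n)} (hp : IsType C n M) (hl : l.Prime) {o : ℕ}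
    (hW : Nat.card M.Group = o) (ho : o ≠ 0) (sq : ¬ l * l ∣ o) (h : c.Ok l n) (hN : C.nroots = c.N)
    (hR : ∀ r < c.N, ∀ i, rd l (vec C n r) i = vc l c.RT n r i) (L : List (Fin n)) {S : Matrix (Fin n) (Fin n) ℤ}
    (h1 : (L.map (sM C n)).prod = S) (h2 : ((pwL L l).map (sM C n)).prod = 1) (h3 : S ≠ 1)
    (h4 : ∀ i j, (S i j : ZMod l) = mt l c.S n n i j) : LtX hp l := by
  intro p _ k _ _ _ Mx X
  have hfin : Finite M.Group := Nat.finite_of_card_ne_zero (hW ▸ ho)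
  have hfin' : Finite X.D.W := hfin
  have : Fact l.Prime := ⟨hl⟩
  have h5 : X.D.Wm (M.toCoxeterSystem.wordProd L) = S := (X.Wm_word L).trans h1
  refine lt_of X.D (rt := fun r : Fin c.N => vc l c.RT n r) (fun a ha => ?_)
    (h.fa hl (W := X.D.W) (m := mb X.D l) (σ := M.toCoxeterSystem.wordProd L) ?_ (fun w => ?_) (hW ▸ sq) ?_)
  · obtain ⟨r, hr, rfl⟩ := (X.rt_iff a).1 ha
    exact ⟨⟨r, hN ▸ hr⟩, (funext (hR r (hN ▸ hr))).symm⟩
  · ext i j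
    rw [← h4, ← h5]
    rfl
  · obtain ⟨π, hπ⟩ := H994.KE.exists_perm hp (w⁻¹ : X.D.W)
    refine ⟨(finCongr hN).permCongr π, fun r => ?_⟩
    have h6 : vec C n (π ((finCongr hN).symm r)) = vec C n r ᵥ* X.D.Wm w := (hπ _).trans (X.D.wt_act' w _)
    rw [← funext (hR _ r.2), ← funext (hR _ (Fin.is_lt _))]
    exact (congrArg (rd l) h6).trans (rd_vecMul X.D w _)
  · refine orderOf_eq_prime (X.Wm_inj ?_) fun e => h3 ?_
    · rw [prod_pwL, h1, ← h5] at h2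
      exact (map_pow X.D.WmHom _ l).trans (h2.trans X.D.Wm_one.symm)
    · rw [← h5, e]
      exact X.D.Wm_one

end Cfsg.Agent.BZ.Ex.Lat
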