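import Cfsg.Agent.BZ.L.Ex.Defs
import Cfsg.Agent.KM.Ex.OneX
import Cfsg.Agent.KM.Sc.E2
import Cfsg.Agent.KM.Sc.Dat3

/-!
# BZ, exceptional groups at good primes: the rows (helper21)

`good_of : BoxLat → BoxAb → BoxTop → Good`.
-/

set_option autoImplicit false
set_option linter.unusedSectionVars false
set_option maxHeartbeats 400000

namespace Cfsg.Agent.BZ.Ex

open Cfsg Cfsg.Lie Subgroup Matrix Cfsg.Agent.DL Cfsg.Agent.KM Cfsg.Agent.KZ.DatX Cfsg.Agent.Nodes.RGDChev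
open Cfsg.Agent.TO.X.Cn (PM pi1 pm_E6 pm_E7 pm_E8)

namespace Rows

variable {l : ℕ} [hl : Fact l.Prime] {S : Type} [Group S]

/-- abelian Sylow subgroups -/
theorem row_ab {X : Bad} (h : LV.AbS l S) : RowX X l S := fun K _ _ σ M B D H _ => H.nab ⟨⟨fun a b => by
  obtain ⟨Q, hQ⟩ := (H.pg.map σ).exists_le_sylow
  obtain ⟨j, hj⟩ := H.pg (a * b * (b * a)⁻¹)
  have h1 : ((a * b * (b * a)⁻¹ : D) : K) ∈ center K := H.ker.le (by
    rw [MonoidHom.mem_ker, coe_mul, coe_mul, coe_inv, coe_mul, map_mul, map_mul, map_inv, map_mul,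
      LV.abS_iff.1 h Q _ (hQ ⟨a, a.2, rfl⟩) _ (hQ ⟨b, b.2, rfl⟩), mul_inv_cancel])
  refine mul_inv_eq_one.1 (Subtype.ext ((pow_eq_one_iff_of_coprime
    ((hl.out.coprime_iff_not_dvd.2 H.zp).pow_left j)).1 ⟨congrArg Subtype.val hj, ?_⟩))
  exact congrArg Subtype.val (pow_card_eq_one' (x := (⟨_, h1⟩ : center K)))⟩⟩

/-- the identity is an isogeny -/
def isogRefl {p : ℕ} [Fact p.Prime] {k : Type} [Field k] [CharP k p] [IsAlgClosed k] {Y : Type} [Group Y] {N : Type}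
    [Fintype N] [DecidableEq N] {ρ : Y →* GL N k} {F : MulAut Y} {G : Subgroup Y} (X : Datum p ρ F G) :
    Sc.Isog X X (MonoidHom.id Y) 1 where
  pos := one_pos
  comm _ := rfl
  mem _ h := h
  surj y h := ⟨y, h, rfl⟩
  ker y _ h := (show y = 1 from h) ▸ one_mem _
  P := 1
  Q := 1
  PQ := by simp
  QP := by simp
  tau c := congrArg X.τ (funext fun i => by simp [chr_apply, one_apply])
  root a h := ⟨a, h, (vecMul_one _).symm⟩
  root' a h := ⟨a, h, (vecMul_one _).symm⟩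

variable {C : ChevalleyDatum} {n : ℕ} {M : CoxeterMatrix (Fin n)} {hp : IsType C n M} {r : ℕ} [Fact r.Prime]
  {Mx : Matrix (Fin n) (Fin n) ℤ} {Adm : Matrix (Fin n) (Fin n) ℤ → Prop} {d e f z : ℕ}

variable (hp r e Mx l) in
/-- `w F` is a scalar which is `1` modulo `l` -/
def Sca : Prop := ∀ (k : Type) [Field k] [CharP k r] [IsAlgClosed k] (X : XF hp r k Mx),
  ∃ (u : ℤ) (w : X.D.W), X.D.Wm w * X.D.Mx = u • 1 ∧ (u = (r : ℤ) ^ e ∨ u = -(r : ℤ) ^ e) ∧ (l : ℤ) ∣ u - 1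

theorem sca_one (h : (l : ℤ) ∣ (r ^ e : ℕ) - 1) : Sca l hp r ((r : ℤ) ^ e • 1) e := fun _ _ _ _ X =>
  ⟨_, 1, by rw [X.D.Wm_one, one_mul]; rfl, Or.inl rfl, by rwa [Nat.cast_pow] at h⟩

theorem sca_neg {B : Matrix (Fin n) (Fin n) ℤ} (hB : B * B = 1) (h : (l : ℤ) ∣ -(r ^ e : ℕ) - 1)
    (hn : ∀ (k : Type) [Field k] [CharP k r] [IsAlgClosed k] (X : XF hp r k ((r : ℤ) ^ e • B)), ∃ w, X.D.Wm w = -B) :
    Sca l hp r ((r : ℤ) ^ e • B) e := fun k _ _ _ X =>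
  let ⟨w, hw⟩ := hn k X
  have h1 : -B * ((r : ℤ) ^ e • B) = (-(r : ℤ) ^ e) • 1 := by rw [Matrix.mul_smul, neg_mul, hB, smul_neg, neg_smul]
  ⟨_, w, (congrArg (· * X.D.Mx) hw).trans h1, Or.inr rfl, by rwa [Nat.cast_pow] at h⟩

variable (T : BoxTop) (hS : Sca l hp r Mx e) (he : 0 < e) (h5 : 5 ≤ l) (hr : l ≠ r) (hW : ¬ l ^ 2 ∣ Nat.card M.Group)
  (hf : f ∣ 6) (hP : PM C n f) (hL : ∀ s : ℕ, s.Prime → l ≤ s → Sc.LX hp s) (hT : LtX hp l)
include T hS he h5 hr hW hf hP hL hT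

theorem top {k : Type} [Field k] [CharP k r] [IsAlgClosed k] (X : XF hp r k Mx) {Y : Type} [Group Y] {N : Type} [Fintype N]
    [DecidableEq N] {ρ : Y →* GL N k} {F : MulAut Y} {X' : Datum r ρ F ⊤} {θ : Y →* ↥(C.group k)} (I : Sc.Isog X' X.D θ z)
    (hk : θ.ker ≤ center Y) (hz : z ∣ 6) (J : Ideal AlgInt) (hJ : IsPModular l J) : Cl.BX XP l J ↥(GF F ⊤) :=
  let ⟨u, w, h1, h2, h3⟩ := hS k X
  T X' X.D θ z f l e u w ⟨I⟩ hk h1 he h2 hl.out h5 hr h3 hW hz hf (pi1 X hP) (fun s h4 h6 => hL s h4 h6 r k Mx X)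
    (hT r k Mx X) J hJ

theorem row_sc (h : Sc.HasSc hp r Mx Adm z d S) (hz : z ∣ 6) {A : Type} [CommGroup A] (hA : HasSchurMultiplier S A)
    (hrA : ¬ r ∣ Nat.card A) : RowP l S := by
  obtain ⟨k, _, _, _, X, t, -, Y, _, N, _, _, ρ, F, X', θ, s, ⟨I⟩, h2, h3⟩ := h
  refine Cl.row_sc Cl.lfP s (top T hS he h5 hr hW hf hP hL hT X I h2.le hz) hA (I.not_dvd s h3 hl.out ?_) (Cl.no_cov hrA)
  refine Nat.Coprime.coprime_dvd_right hz (hl.out.coprime_iff_not_dvd.2 fun k => ?_)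
  rcases (Nat.Prime.dvd_mul (m := 2) (n := 3) hl.out).1 k with k | k <;> have := Nat.le_of_dvd (by norm_num) k <;> omega

theorem row_nt (h : Nt.HasNT hp r Mx 1 S) (hA : HasCyclicSchurMultiplier S 1) : RowP l S := by
  obtain ⟨k, _, _, _, X, -, ⟨s⟩⟩ := h
  have := X.finite
  have := Finite.of_injective _ s.ov.hom_inj
  let i := (MulEquiv.ofBijective s.ov.hom ⟨s.ov.hom_inj, MonoidHom.range_eq_top.1
    (index_eq_one.1 (Nat.dvd_one.1 (s.idx odd_one)))⟩).symm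
  refine row_of_cov hA fun m hm _ _ => ?_
  obtain rfl := Nat.dvd_one.1 hm
  refine Cl.cov_one Cl.lfP fun J hJ => Cl.bx_quot Cl.lfP hJ i.toMonoidHom i.surjective ?_
    (top T hS he h5 hr hW hf hP hL hT X (isogRefl X.D) (fun y h => (show y = 1 from h) ▸ one_mem _) (one_dvd 6) J hJ)
  rw [(MonoidHom.ker_eq_bot_iff _).2 i.injective, card_bot]
  exact hl.out.not_dvd_one

end Rows

open Rows

/-- **the rows** -/
theorem good_of (L : BoxLat) (A : BoxAb) (T : BoxTop) : Good where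
  g2 l hl S _ _ h5 h := row_ab (X := XP) (A.g2 l S hl.out h5 h)
  f4 l hl S _ _ h5 h := row_ab (X := XP) (A.f4 l S hl.out h5 h)
  td4 l hl S _ _ h5 h := row_ab (X := XP) (A.td4 l S hl.out h5 h)
  e6 l hl S _ _ h5 := by
    rintro ⟨F, _, _, h1, ⟨i⟩⟩
    refine RowP.of_equiv i ?_
    by_cases h2 : l = 5 ∧ Fintype.card F % 5 = 1
    swap
    · exact row_ab (X := XP) (A.e6 l F hl.out h5 h1 h2)
    obtain ⟨rfl, h2⟩ := h2
    obtain ⟨r, e, _, _, hr, he, hF⟩ := Nt.exists_char F h1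
    exact row_sc T (sca_one (by rw [← hF]; omega)) he h5 hr (by rw [card_W_E6]; norm_num) (by norm_num) pm_E6
      (fun s h3 h4 _ _ _ _ _ _ _ X => KM.Ex.lev_E6 X h3 h4) L.e6 (Sc.hasSc_E6 Dat.boxDat2 hF) (by norm_num)
      (S2105.result hF) (Sc.not_dvd_sub Fact.out he 3)
  te6 l hl S _ _ h5 := by
    rintro ⟨F, _, _, q, h1, hq, hF, ⟨i⟩⟩
    refine RowP.of_equiv i ?_
    by_cases h2 : l = 5 ∧ q % 5 = 4
    swap
    · exact row_ab (X := XP) (A.te6 l F q hl.out h5 h1 hq hF h2)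
    obtain ⟨rfl, h2⟩ := h2
    obtain ⟨r, e, _, _, hr, he, h6⟩ := Nt.exists_char' F h1 hq two_ne_zero hF
    have h7 : ((5 : ℕ) : ℤ) ∣ -(q : ℕ) - 1 := by omega
    have h8 : q ≠ 2 := by omega
    subst h6
    exact row_sc T (sca_neg (by decide +kernel) h7 fun _ _ _ _ X => X.exists_neg_E6) he h5 hr (by rw [card_W_E6]; norm_num)
      (by norm_num) pm_E6 (fun s h3 h4 _ _ _ _ _ _ _ X => KM.Ex.lev_E6 X h3 h4) L.e6 (Sc.hasSc_2E6 Dat.boxDat2 hF)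
      (by norm_num) (S2108.result hq hF h8) (Sc.not_dvd_add Fact.out he 3)
  e7 l hl S _ _ h5 := by
    rintro ⟨F, _, _, h1, ⟨i⟩⟩
    refine RowP.of_equiv i ?_
    by_cases h2 : (l = 5 ∨ l = 7) ∧ (Fintype.card F % l = 1 ∨ Fintype.card F % l = l - 1)
    swap
    · exact row_ab (X := XP) (A.e7 l F hl.out h5 h1 h2)
    obtain ⟨r, e, _, _, hr, he, hF⟩ := Nt.exists_char F h1
    refine row_sc T (h2.2.elim (fun h => sca_one ?_) fun h => sca_neg (one_mul 1) ?_ fun _ _ _ _ X => X.exists_neg_E7) he h5 hr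
      ?_ (by norm_num) pm_E7 (fun s h3 h4 _ _ _ _ _ _ _ X => KM.Ex.lev_E7 X h3 (h5.trans h4)) ?_
      (Sc.hasSc_E7 Dat.boxDat2 hF) (by norm_num) (S2106.result hF) (Sc.not_dvd_sub Fact.out he 2)
    · rw [← hF]
      rcases h2.1 with rfl | rfl <;> omega
    · rw [← hF]
      rcases h2.1 with rfl | rfl <;> omega
    · rw [card_W_E7]
      rcases h2.1 with rfl | rfl <;> norm_num
    · rcases h2.1 with rfl | rfl
      exacts [L.e75, L.e77]
  e8 l hl S _ _ h5 := by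
    rintro ⟨F, _, _, h1, ⟨i⟩⟩
    refine RowP.of_equiv i ?_
    by_cases h2 : l = 7 ∧ (Fintype.card F % 7 = 1 ∨ Fintype.card F % 7 = 6)
    swap
    · exact row_ab (X := XP) (A.e8 l F hl.out h5 h1 h2)
    obtain ⟨rfl, h2⟩ := h2
    obtain ⟨r, e, _, _, hr, he, hF⟩ := Nt.exists_char F h1
    exact row_nt T (h2.elim (fun h => sca_one (by rw [← hF]; omega)) fun h => sca_neg (one_mul 1) (by rw [← hF]; omega)
      fun _ _ _ _ X => X.exists_neg_E8) he (by norm_num) hr (by rw [card_W_E8]; norm_num) (one_dvd 6) pm_E8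
      (fun s h3 h4 _ _ _ _ _ _ _ X => KM.Ex.lev_E8 X h3 h4) L.e8 (Nt.has_E8 hF) S2107.result

end Cfsg.Agent.BZ.Ex
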