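import Cfsg.Agent.BZ.L.Ex.Defs
import Cfsg.Agent.KZ.Lie.McSc

/-!
# BZ, exceptional groups at good primes: the split torus (helper56)

`pow_dvd_det` : the `s`-part of `det (q u - 1)` divides `det (q - 1)` for odd primes `s ∣ q - 1`; `cardL`; `exists_frame` : an
`s`-subgroup normalises a split torus.
-/

set_option autoImplicit false
set_option linter.unusedSectionVars false

namespace Cfsg.Agent.BZ.Ex

open Cfsg Matrix Cfsg.Agent.DL Cfsg.Agent.KZ.Lie Cfsg.Agent.LV.Blk Cfsg.Agent.Nodes.Reps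

section Val

variable {s : ℕ} [hs : Fact s.Prime]

theorem nrm_int (z : ℤ) : ‖(z : PadicAlgCl s)‖ = ‖(z : ℚ_[s])‖ := by
  rw [← PadicAlgCl.norm_extends]
  exact congrArg _ (map_intCast (algebraMap ℚ_[s] (PadicAlgCl s)) z).symm

theorem nrm_le_iff (z : ℤ) (j : ℕ) : ‖(z : PadicAlgCl s)‖ ≤ (s : ℝ) ^ (-j : ℤ) ↔ (s : ℤ) ^ j ∣ z := by
  rw [nrm_int]
  exact Padic.norm_int_le_pow_iff_dvd z j

theorem nrm_nat (z : ℕ) : ‖(z : PadicAlgCl s)‖ ≤ 1 := by
  have := (nrm_int (s := s) z).trans_le (Padic.norm_int_le_one _)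
  rwa [Int.cast_natCast] at this

theorem nrm_s : ‖(s : PadicAlgCl s)‖ = (s : ℝ)⁻¹ := by
  have := nrm_int (s := s) s
  rwa [Int.cast_natCast, Int.cast_natCast, Padic.norm_p] at this

theorem inv_lt : (s : ℝ)⁻¹ < 1 := inv_lt_one_of_one_lt₀ (by exact_mod_cast hs.out.one_lt)

theorem inv_pos' : 0 < (s : ℝ)⁻¹ := inv_pos.2 (by exact_mod_cast hs.out.pos)

theorem nrm_pow_sub {x : PadicAlgCl s} (h : ‖x - 1‖ ≤ (s : ℝ)⁻¹) (i : ℕ) :
    ‖x ^ i - 1‖ ≤ (s : ℝ)⁻¹ ∧ ‖x ^ i - 1 - i * (x - 1)‖ ≤ (s : ℝ)⁻¹ * (s : ℝ)⁻¹ := by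
  have h0 := inv_lt (s := s)
  have h1 := inv_pos' (s := s)
  induction i with
  | zero => exact ⟨by simp, by simpa using (mul_pos h1 h1).le⟩
  | succ i ih =>
    have h2 : ‖(x ^ i - 1) * (x - 1)‖ ≤ (s : ℝ)⁻¹ * (s : ℝ)⁻¹ := by
      rw [norm_mul]
      exact mul_le_mul ih.1 h (norm_nonneg _) h1.le
    constructor
    · rw [show x ^ (i + 1) - 1 = (x ^ i - 1) * (x - 1) + ((x ^ i - 1) + (x - 1)) by ring]
      exact (IsUltrametricDist.norm_add_le_max _ _).trans (max_le (h2.trans (by nlinarith))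
        ((IsUltrametricDist.norm_add_le_max _ _).trans (max_le ih.1 h)))
    · rw [show x ^ (i + 1) - 1 - (i + 1 : ℕ) * (x - 1) = (x ^ i - 1) * (x - 1) + (x ^ i - 1 - i * (x - 1)) by push_cast; ring]
      exact (IsUltrametricDist.norm_add_le_max _ _).trans (max_le h2 ih.2)

/-- no root of unity is congruent to `1` modulo `s` -/
theorem eq_one_of_nrm (h2 : s ≠ 2) {n : ℕ} (hn : n ≠ 0) : ∀ {x : PadicAlgCl s}, ‖x - 1‖ ≤ (s : ℝ)⁻¹ → x ^ n = 1 → x = 1 := by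
  induction n using Nat.recOnMul with
  | zero => exact absurd rfl hn
  | one => exact fun _ h => by rwa [pow_one] at h
  | mul a b ha hb =>
    exact fun h e => ha (left_ne_zero_of_mul hn) h (hb (right_ne_zero_of_mul hn) (nrm_pow_sub h a).1 (by rwa [← pow_mul]))
  | prime l hl =>
    intro x h e
    by_contra h1
    have h3 : ∑ i ∈ Finset.range l, x ^ i = 0 := by
      have := mul_geom_sum x l
      rw [e, sub_self] at this
      exact (mul_eq_zero.1 this).resolve_left (sub_ne_zero.2 h1)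
    have k0 := inv_lt (s := s)
    have k1 := inv_pos' (s := s)
    by_cases h4 : l = s
    · subst h4
      obtain ⟨t, ht⟩ := hl.odd_of_ne_two h2
      have h5 : ‖∑ i ∈ Finset.range l, (x ^ i - 1 - i * (x - 1))‖ ≤ (l : ℝ)⁻¹ * (l : ℝ)⁻¹ :=
        IsUltrametricDist.norm_sum_le_of_forall_le_of_nonneg (mul_pos k1 k1).le fun i _ => (nrm_pow_sub h i).2
      have h6 : ∑ i ∈ Finset.range l, i = l * t := by
        have := Finset.sum_range_id_mul_two l
        rw [show l - 1 = t * 2 by omega, ← mul_assoc] at this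
        omega
      rw [Finset.sum_sub_distrib, Finset.sum_sub_distrib, h3, Finset.sum_const, Finset.card_range, nsmul_one, ← Finset.sum_mul,
        ← Nat.cast_sum, h6, Nat.cast_mul] at h5
      have h7 : ‖(l : PadicAlgCl l) * t * (x - 1)‖ ≤ (l : ℝ)⁻¹ * (l : ℝ)⁻¹ := by
        rw [norm_mul, norm_mul, nrm_s, mul_assoc]
        exact mul_le_mul_of_nonneg_left ((mul_le_of_le_one_left (norm_nonneg _) (nrm_nat t)).trans h) k1.le
      have h8 := (IsUltrametricDist.norm_add_le_max _ _).trans (max_le h5 h7)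
      rw [sub_add_cancel, zero_sub, norm_neg, nrm_s] at h8
      nlinarith
    · have h5 : ‖∑ i ∈ Finset.range l, (x ^ i - 1)‖ ≤ (s : ℝ)⁻¹ :=
        IsUltrametricDist.norm_sum_le_of_forall_le_of_nonneg k1.le fun i _ => (nrm_pow_sub h i).1
      rw [Finset.sum_sub_distrib, h3, zero_sub, norm_neg, Finset.sum_const, Finset.card_range, nsmul_one] at h5
      have h6 := (nrm_le_iff (s := s) l 1).1 (by simpa using h5)
      exact h4 ((Nat.prime_dvd_prime_iff_eq hs.out hl).1 (by exact_mod_cast (pow_one (s : ℤ) ▸ h6))).symm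

theorem nrm_sub_le (h0 : s ≠ 2) {q : ℤ} (hq : (s : ℤ) ∣ q - 1) {n : ℕ} (hn : n ≠ 0) {μ : PadicAlgCl s} (h : (μ + 1) ^ n = q ^ n) :
    ‖((q - 1 : ℤ) : PadicAlgCl s)‖ ≤ ‖μ‖ := by
  by_contra h1
  have h2 : ‖((q - 1 : ℤ) : PadicAlgCl s)‖ ≤ (s : ℝ)⁻¹ := by simpa using (nrm_le_iff (s := s) (q - 1) 1).2 (by simpa using hq)
  have h3 : ‖(q : PadicAlgCl s)‖ = 1 := by
    rw [nrm_int]
    exact le_antisymm (Padic.norm_int_le_one q) (not_lt.1 fun e => hs.out.not_dvd_one (by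
      have := dvd_sub (Padic.norm_intCast_lt_one_iff.1 e) hq
      rw [sub_sub_cancel] at this
      exact_mod_cast this))
  have h4 : (q : PadicAlgCl s) ≠ 0 := fun e => by simp [e] at h3
  have h5 := eq_one_of_nrm h0 hn (x := (μ + 1) / q) (by
    rw [div_sub_one h4, norm_div, h3, div_one, show μ + 1 - q = μ + -((q - 1 : ℤ) : PadicAlgCl s) by push_cast; ring]
    exact (IsUltrametricDist.norm_add_le_max _ _).trans (max_le ((not_le.1 h1).le.trans h2) (by rwa [norm_neg])))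
    (by rw [div_pow, h, div_self (pow_ne_zero _ h4)])
  rw [div_eq_one_iff_eq h4] at h5
  exact h1 (le_of_eq (by rw [← eq_sub_iff_add_eq] at h5; rw [h5]; push_cast; rfl))

/-- the `s`-part of `det (q u - 1)` divides `det (q - 1)` -/
theorem pow_dvd_det (h0 : s ≠ 2) {R : Type} [Fintype R] [DecidableEq R] {q : ℤ} (hq : (s : ℤ) ∣ q - 1) {n : ℕ} (hn : n ≠ 0)
    {A : Matrix R R ℤ} (h : A ^ n = (q ^ n) • 1) {j : ℕ} (hj : (s : ℤ) ^ j ∣ (A - 1).det) :
    (s : ℤ) ^ j ∣ (q - 1) ^ Fintype.card R := by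
  let φ := Int.castRingHom (PadicAlgCl s)
  rw [← nrm_le_iff] at hj ⊢
  refine le_trans ?_ hj
  have hs := IsAlgClosed.splits (φ.mapMatrix (A - 1)).charpoly
  rw [show ((A - 1).det : PadicAlgCl s) = (φ.mapMatrix (A - 1)).det from φ.map_det _, det_eq_prod_roots_charpoly_of_splits hs,
    Int.cast_pow, norm_pow, ← charpoly_natDegree_eq_dim (φ.mapMatrix (A - 1)), hs.natDegree_eq_card_roots,
    ← coe_nnnorm, ← coe_nnnorm, ← NNReal.coe_pow, NNReal.coe_le_coe, ← nnnormHom_apply, ← nnnormHom_apply,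
    map_multiset_prod, ← Multiset.card_map nnnormHom]
  refine Multiset.pow_card_le_prod fun r hr => ?_
  obtain ⟨μ, hμ, rfl⟩ := Multiset.mem_map.1 hr
  refine nrm_sub_le h0 hq hn ?_
  have h1 : μ + 1 ∈ spectrum (PadicAlgCl s) (φ.mapMatrix A) := by
    have := mem_spectrum_iff_isRoot_charpoly.2 (Polynomial.isRoot_of_mem_roots hμ)
    rwa [← spectrum.add_mem_add_iff (s := 1), map_sub, map_one, map_one, add_sub_cancel] at this
  have h2 := spectrum.pow_mem_pow _ n h1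
  rw [← map_pow, h, map_zsmul, map_one, spectrum.mem_iff, zsmul_one,
    ← map_intCast (algebraMap (PadicAlgCl s) (Matrix R R (PadicAlgCl s))), ← map_sub] at h2
  by_contra h3
  exact h2 ((Ne.isUnit (sub_ne_zero.2 (by push_cast; exact h3))).map _)

end Val

variable {p : ℕ} [Fact p.Prime] {k : Type} [Field k] [CharP k p] {Y : Type} [Group Y] {N : Type} [Fintype N]
  [DecidableEq N] {ρ : Y →* GL N k} {F : MulAut Y} {G : Subgroup Y} [IsAlgClosed k] {D : Datum p ρ F G} {w₀ : D.W} {q : ℤ} {s : ℕ}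
  (h : D.Wm w₀ * D.Mx = q • 1)
include h

theorem Wm_mul' (w : D.W) : D.Wm w * D.Mx = q • D.Wm (w * w₀⁻¹) := by
  rw [← mul_one (D.Wm (w * w₀⁻¹)), ← Matrix.mul_smul, ← h, ← mul_assoc, ← D.Wm_mul, inv_mul_cancel_right]

theorem cw_top (h0 : q ≠ 0) : CW D w₀ = ⊤ := eq_top_iff.2 fun v _ => by
  have h1 : q • D.Wm (w₀ * D.Fw v * w₀⁻¹) = q • D.Wm v := by
    rw [← Wm_mul' h, D.Wm_mul, mul_assoc, ← D.Mx_Wm, ← mul_assoc, h, Matrix.smul_mul, one_mul]
  exact mul_inv_eq_iff_eq_mul.1 (D.Wm_injective (smul_right_injective _ h0 h1))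

theorem cardL [Fintype ↥(GF F G)] (hs : s.Prime) (h2 : s ≠ 2) (hp : s ≠ p) (hq : (s : ℤ) ∣ q - 1) : CardL D s w₀ :=
  cardL_of_le hs hp fun w => by
    have := Fact.mk hs
    have h0 : q ≠ 0 := fun e => hs.not_dvd_one (by rw [e, zero_sub, dvd_neg] at hq; exact_mod_cast hq)
    have h1 : ordT D w₀ = (q - 1).natAbs ^ Fintype.card D.R := by
      rw [ordT, h, ← Int.natAbs_pow, show q • (1 : Matrix D.R D.R ℤ) - 1 = (q - 1) • 1 by rw [sub_smul, one_smul], det_smul,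
        det_one, mul_one]
    rw [Nat.factorization_mul (ordT_ne w) Nat.card_pos.ne', Nat.factorization_mul (ordT_ne w₀) Nat.card_pos.ne', cw_top h h0]
    refine add_le_add ?_ ((Nat.factorization_le_iff_dvd Nat.card_pos.ne' Nat.card_pos.ne').2 (Subgroup.card_dvd_of_le le_top) s)
    rw [← hs.pow_dvd_iff_le_factorization (ordT_ne w₀), h1, ← Int.natAbs_pow, ← Int.natCast_dvd, Nat.cast_pow]
    refine pow_dvd_det h2 hq (orderOf_pos (w * w₀⁻¹)).ne' (A := D.Wm w * D.Mx) ?_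
      (by rw [← Nat.cast_pow]; exact Int.natCast_dvd.2 (Nat.ordProj_dvd _ s))
    rw [Wm_mul' h, smul_pow, Wm_pow_orderOf]

/-- **an `s`-subgroup normalises a split torus** -/
theorem exists_frame (hs : s.Prime) (h2 : s ≠ 2) (hp : s ≠ p) (hq : (s : ℤ) ∣ q - 1) {P : Subgroup (GF F G)} (hP : IsPGroup s P) :
    ∃ (y : Y) (hy : y ∈ G) (hN : y⁻¹ * F y ∈ D.NN), (D.conj hy hN).Mx = q • 1 ∧ ∀ x ∈ P, (x : Y) ∈ (D.conj hy hN).NN := by
  have := Fact.mk hs
  have := D.amb.finite_GF G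
  have := Fintype.ofFinite (GF F G)
  obtain ⟨P₁, h1⟩ := hP.exists_le_sylow
  obtain ⟨P₀⟩ : Nonempty (Sylow s (Nz F G (cj (yw D w₀) D.T))) := inferInstance
  let P₂ : Sylow s (GF F G) := Sylow.ofCard ((P₀ : Subgroup (Nz F G (cj (yw D w₀) D.T))).map (Subgroup.subtype _)) (by
    rw [Subgroup.card_map_of_injective (Subgroup.subtype_injective _), P₀.card_eq_multiplicity, card_Nz (yw_mem D w₀) (yw_rp D w₀),
      ← cardL h hs h2 hp hq])
  obtain ⟨g, hg⟩ := MulAction.exists_smul_eq (GF F G) P₁ P₂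
  have h3 : D.Rp w₀ (((g : Y)⁻¹ * yw D w₀)⁻¹ * F ((g : Y)⁻¹ * yw D w₀)) := by
    rw [map_mul, map_inv, show F g = g from g.2.2, _root_.mul_inv_rev, inv_inv, mul_assoc, mul_inv_cancel_left]
    exact yw_rp D w₀
  refine ⟨_, mul_mem (inv_mem g.2.1) (yw_mem D w₀), ⟨w₀, h3⟩, by rw [D.conj_Mx, h3.pr_eq, h], fun x hx => ?_⟩
  obtain ⟨u, -, hu⟩ : g * x * g⁻¹ ∈ (P₂ : Subgroup (GF F G)) := by
    rw [← hg]
    exact ⟨x, h1 hx, rfl⟩
  have h4 := Nz_NN (yw_mem D w₀) u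
  rw [show (u : GF F G) = g * x * g⁻¹ from hu] at h4
  refine (D.conj_NN _ _).ge (mem_cj.2 ?_)
  simpa [mul_assoc] using h4

end Cfsg.Agent.BZ.Ex
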